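import Groth.Agent.LaurTorus.TorusPts
import Groth.Agent.GITLib.TorsorSch
import Groth.Agent.SGA1Torsor.Basic
import Mathlib.RingTheory.Flat.FaithfullyFlat.Algebra

/-!
# Points of affine groups and torsors with values in algebras over the base
-/

set_option autoImplicit false
set_option linter.style.haveILetI false
set_option linter.unusedSectionVars false

universe u

open CategoryTheory CategoryTheory.Limits MonoidalCategory CartesianMonoidalCategory MonObj AlgebraicGeometry
open scoped TensorProduct

noncomputable section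

namespace Groth.Agent.ValTors

variable {V : Type u} [CommRing V]

/-- The scheme of an algebra over the base. -/
abbrev sA (R : Type u) [CommRing R] [Algebra V R] : Over (Spec (CommRingCat.of V)) :=
  LaurTorus.src (algebraMap V R)

section Am

variable {R R' R'' : Type u} [CommRing R] [CommRing R'] [CommRing R''] [Algebra V R] [Algebra V R'] [Algebra V R'']

/-- The map of schemes of an algebra map. -/
def am (f : R →ₐ[V] R') : sA (V := V) R' ⟶ sA R :=
  LaurTorus.smap (algebraMap V R) (algebraMap V R') f.toRingHom f.comp_algebraMap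

theorem am_comp {X : Over (Spec (CommRingCat.of V))} (f : R →ₐ[V] R') (g : R' →ₐ[V] R'') (x : sA R ⟶ X) :
    am g ≫ am f ≫ x = am (g.comp f) ≫ x := by
  rw [← Category.assoc]
  congr 1
  refine Over.OverMorphism.ext ?_
  show Spec.map _ ≫ Spec.map _ = Spec.map _
  rw [← Spec.map_comp]
  rfl

/-- The coordinates of a point of an affine scheme. -/
def coord {M : Over (Spec (CommRingCat.of V))} [IsAffine M.left] (x : sA R ⟶ M) : Γ(M.left, ⊤) →+* R :=
  (Spec.preimage (x.left ≫ M.left.isoSpec.hom)).hom

theorem coord_am {M : Over (Spec (CommRingCat.of V))} [IsAffine M.left] (f : R →ₐ[V] R') (x : sA R ⟶ M) :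
    coord (am f ≫ x) = f.toRingHom.comp (coord x) := by
  have : Spec.preimage ((am f ≫ x).left ≫ M.left.isoSpec.hom) =
      Spec.preimage (x.left ≫ M.left.isoSpec.hom) ≫ CommRingCat.ofHom f.toRingHom := by
    apply Spec.map_injective
    rw [Spec.map_preimage, Spec.map_comp, Spec.map_preimage, Over.comp_left, Category.assoc]
    rfl
  exact congrArg CommRingCat.Hom.hom this

theorem coord_inj {M : Over (Spec (CommRingCat.of V))} [IsAffine M.left] {x y : sA R ⟶ M} (h : coord x = coord y) :
    x = y := by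
  have h' : Spec.preimage (x.left ≫ M.left.isoSpec.hom) = Spec.preimage (y.left ≫ M.left.isoSpec.hom) :=
    CommRingCat.hom_ext h
  have h'' := congrArg Spec.map h'
  rw [Spec.map_preimage, Spec.map_preimage, cancel_mono] at h''
  exact Over.OverMorphism.ext h''

theorem pt_injective {M : Over (Spec (CommRingCat.of V))} [IsAffine M.left] (f : R →ₐ[V] R')
    (hf : Function.Injective f) : Function.Injective fun x : sA R ⟶ M => am f ≫ x := fun x y h => by
  refine coord_inj (RingHom.ext fun z => hf ?_)
  have := congrArg coord h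
  simp only [coord_am] at this
  exact DFunLike.congr_fun this z

/-- A point with coordinates in a subalgebra comes from the subalgebra. -/
theorem exists_factor {M : Over (Spec (CommRingCat.of V))} [IsAffine M.left] (f : R →ₐ[V] R')
    (hf : Function.Injective f) (x : sA R' ⟶ M) (h : ∀ z, coord x z ∈ Set.range f) :
    ∃ y : sA R ⟶ M, am f ≫ y = x := by
  let eq := AlgEquiv.ofInjective f hf
  let ψ : Γ(M.left, ⊤) →+* R :=
    eq.symm.toRingEquiv.toRingHom.comp ((coord x).codRestrict f.range fun z => h z)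
  have hψ : f.toRingHom.comp ψ = coord x := RingHom.ext fun z =>
    congrArg Subtype.val (eq.apply_symm_apply ((coord x).codRestrict f.range (fun z => h z) z))
  let s := Spec.map (CommRingCat.ofHom ψ) ≫ M.left.isoSpec.inv
  have hs : Spec.map (CommRingCat.ofHom f.toRingHom) ≫ s = x.left := by
    show Spec.map _ ≫ Spec.map _ ≫ _ = _
    rw [← Spec.map_comp_assoc, ← CommRingCat.ofHom_comp, hψ, coord, CommRingCat.ofHom_hom, Spec.map_preimage]
    simp
  obtain ⟨k, hk⟩ := Spec.map_surjective (s ≫ M.hom)
  have hk1 : k ≫ CommRingCat.ofHom f.toRingHom = CommRingCat.ofHom (algebraMap V R') := Spec.map_injective (by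
    rw [Spec.map_comp, hk, reassoc_of% hs]
    exact Over.w x)
  have hk2 : k = CommRingCat.ofHom (algebraMap V R) := CommRingCat.hom_ext (RingHom.ext fun v => hf (by
    refine Eq.trans ?_ (f.commutes v).symm
    exact congr($hk1 v)))
  exact ⟨Over.homMk s (by rw [← hk, hk2]; rfl), Over.OverMorphism.ext hs⟩

end Am

section Chars

variable {C : Type u} [CommRing C] [Algebra V C] {M : Over (Spec (CommRingCat.of V))} [GrpObj M] {Λ : Type}
  [AddCommGroup Λ] (e : Red.bc (Spec.map (CommRingCat.ofHom (algebraMap V C))) M ≅ Red.DS (Spec (CommRingCat.of C)) Λ)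
  [IsMonHom e.hom]
variable (R : Type u) [CommRing R] [Algebra V R] [Algebra C R] [IsScalarTower V C R]

/-- The characters of a point over an algebra over the splitting ring. -/
def P : (sA (V := V) R ⟶ M) ≃ (Λ →+ Additive Rˣ) :=
  LaurTorus.pts (algebraMap V C) e (algebraMap C R) (algebraMap V R) (IsScalarTower.algebraMap_eq V C R).symm

theorem P_mul (x y : sA (V := V) R ⟶ M) : P e R (x * y) = P e R x + P e R y :=
  LaurTorus.pts_mul _ _ _ _ _ x y

theorem P_one : P e R (1 : sA (V := V) R ⟶ M) = 0 :=
  LaurTorus.pts_one _ _ _ _ _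

theorem P_inv (x : sA (V := V) R ⟶ M) : P e R x⁻¹ = -P e R x := by
  have h : P e R x⁻¹ + P e R x = 0 := by rw [← P_mul, inv_mul_cancel, P_one]
  exact eq_neg_of_add_eq_zero_left (G := Λ →+ Additive Rˣ) h

theorem P_am {R' : Type u} [CommRing R'] [Algebra V R'] [Algebra C R'] [IsScalarTower V C R'] (f : R →ₐ[C] R')
    (x : sA (V := V) R ⟶ M) : P e R' (am (f.restrictScalars V) ≫ x) = LaurTorus.pushU f.toRingHom (P e R x) :=
  LaurTorus.pts_smap _ _ _ _ _ _ _ _ _ _ f.comp_algebraMap x

include e in
/-- The points of a group split by a faithfully flat extension commute. -/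
theorem pt_comm [IsAffine M.left] [Module.FaithfullyFlat V C] {R₀ : Type u} [CommRing R₀] [Algebra V R₀]
    (x y : sA (V := V) R₀ ⟶ M) : x * y = y * x := by
  let f : R₀ →ₐ[V] C ⊗[V] R₀ := Algebra.TensorProduct.includeRight
  have hf : Function.Injective f := Module.FaithfullyFlat.tensorProduct_mk_injective (A := V) (B := C) R₀
  refine pt_injective f hf ?_
  show am f ≫ (x * y) = am f ≫ (y * x)
  rw [MonObj.comp_mul, MonObj.comp_mul]
  apply (P e (C ⊗[V] R₀)).injective
  rw [P_mul, P_mul]
  exact AddCommMagma.add_comm (P e (C ⊗[V] R₀) (am f ≫ x) : Λ →+ Additive (C ⊗[V] R₀)ˣ) _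

end Chars

/-- The map from the spectrum of an algebra. -/
abbrev gen (V K : Type u) [CommRing V] [CommRing K] [Algebra V K] :
    Spec (CommRingCat.of K) ⟶ Spec (CommRingCat.of V) :=
  Spec.map (CommRingCat.ofHom (algebraMap V K))

section Transfer

variable {K : Type u} [CommRing K] [Algebra V K] {M : Over (Spec (CommRingCat.of V))} [GrpObj M]
  {X Y : Over (Spec (CommRingCat.of V))} {a : AlgGrp.Action M X} {b : AlgGrp.Action M Y}

variable (i : NonAbH1.EquivIso (a.bc (gen V K)) (b.bc (gen V K)))
variable (R : Type u) [CommRing R] [Algebra V R] [Algebra K R] [IsScalarTower V K R]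

/-- Transport of points along an isomorphism over the generic fibre. -/
def trans (x : sA (V := V) R ⟶ X) : sA (V := V) R ⟶ Y :=
  (LaurTorus.srcIso (algebraMap V K) (algebraMap K R) (algebraMap V R) (IsScalarTower.algebraMap_eq V K R).symm).hom ≫
    ((Over.mapPullbackAdj (gen V K)).homEquiv (LaurTorus.src (algebraMap K R)) Y).symm
      ((Over.mapPullbackAdj (gen V K)).homEquiv (LaurTorus.src (algebraMap K R)) X
        ((LaurTorus.srcIso (algebraMap V K) (algebraMap K R) (algebraMap V R)
          (IsScalarTower.algebraMap_eq V K R).symm).inv ≫ x) ≫ i.iso.hom)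

theorem trans_smul (g : sA (V := V) R ⟶ M) (x : sA (V := V) R ⟶ X) :
    trans i R (lift g x ≫ a.act) = lift g (trans i R x) ≫ b.act := by
  let s := LaurTorus.srcIso (algebraMap V K) (algebraMap K R) (algebraMap V R) (IsScalarTower.algebraMap_eq V K R).symm
  let hX := (Over.mapPullbackAdj (gen V K)).homEquiv (LaurTorus.src (algebraMap K R)) X
  let hY := (Over.mapPullbackAdj (gen V K)).homEquiv (LaurTorus.src (algebraMap K R)) Y
  show s.hom ≫ hY.symm (hX (s.inv ≫ lift g x ≫ a.act) ≫ i.iso.hom) = _
  rw [← cancel_epi s.inv, Iso.inv_hom_id_assoc, comp_lift_assoc, comp_lift_assoc,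
    show s.inv ≫ trans i R x = hY.symm (hX (s.inv ≫ x) ≫ i.iso.hom) from Iso.inv_hom_id_assoc s _,
    Equiv.symm_apply_eq]
  have h1 : hX (lift (s.inv ≫ g) (s.inv ≫ x) ≫ a.act) =
      lift ((Over.mapPullbackAdj (gen V K)).homEquiv (LaurTorus.src (algebraMap K R)) M (s.inv ≫ g)) (hX (s.inv ≫ x)) ≫
        (a.bc (gen V K)).act := (AlgGrp.Action.lift_homEquiv_bc_act (gen V K) a _ _).symm
  rw [h1, Category.assoc, i.comm, lift_whiskerLeft_assoc]
  refine Eq.trans ?_ (AlgGrp.Action.lift_homEquiv_bc_act (gen V K) b _ _)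
  rw [show (Over.mapPullbackAdj (gen V K)).homEquiv (LaurTorus.src (algebraMap K R)) Y (hY.symm (hX (s.inv ≫ x) ≫ i.iso.hom)) =
    hX (s.inv ≫ x) ≫ i.iso.hom from hY.apply_symm_apply _]

theorem trans_am {R' : Type u} [CommRing R'] [Algebra V R'] [Algebra K R'] [IsScalarTower V K R'] (f : R →ₐ[K] R')
    (x : sA (V := V) R ⟶ X) : am (f.restrictScalars V) ≫ trans i R x = trans i R' (am (f.restrictScalars V) ≫ x) := by
  let s := LaurTorus.srcIso (algebraMap V K) (algebraMap K R) (algebraMap V R) (IsScalarTower.algebraMap_eq V K R).symm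
  let s' := LaurTorus.srcIso (algebraMap V K) (algebraMap K R') (algebraMap V R')
    (IsScalarTower.algebraMap_eq V K R').symm
  let q : LaurTorus.src (algebraMap K R') ⟶ LaurTorus.src (algebraMap K R) :=
    LaurTorus.smap _ _ f.toRingHom f.comp_algebraMap
  have hs : am (f.restrictScalars V) ≫ s.hom = s'.hom ≫ (Over.map (gen V K)).map q := by
    refine Over.OverMorphism.ext ?_
    show Spec.map _ ≫ 𝟙 _ = 𝟙 _ ≫ Spec.map _
    rw [Category.comp_id, Category.id_comp]
    rfl
  have hs' : s'.inv ≫ am (f.restrictScalars V) = (Over.map (gen V K)).map q ≫ s.inv := by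
    rw [Iso.inv_comp_eq, ← Category.assoc, ← hs, Category.assoc, Iso.hom_inv_id, Category.comp_id]
  show am (f.restrictScalars V) ≫ s.hom ≫ _ = s'.hom ≫ _
  rw [← Category.assoc, hs, Category.assoc]
  congr 1
  rw [← Adjunction.homEquiv_naturality_left_symm, ← Category.assoc q, ← Adjunction.homEquiv_naturality_left]
  rw [← Category.assoc ((Over.map (gen V K)).map q), ← hs', Category.assoc]

end Transfer

/-- A point of an fpqc locally trivial object over a faithfully flat algebra. -/
theorem exists_point_ff {X : Over (Spec (CommRingCat.of V))}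
    (h : NonAbH1.IsLocallyTrivialFor Scheme.fpqcPrecoverage X) :
    ∃ (B : Type u) (_ : CommRing B) (_ : Algebra V B), Module.FaithfullyFlat V B ∧ Nonempty (sA (V := V) B ⟶ X) := by
  let U : (Spec (CommRingCat.of V)).Opens := ⊤
  have hU : IsAffineOpen U := isAffineOpen_top _
  obtain ⟨B₀, instB, algB, hB, ⟨x₀⟩⟩ := SGA1Torsor.exists_point_affine (X := X) h (U := U) hU
  let gam : V ≃+* Γ(Spec (CommRingCat.of V), U) := (Scheme.ΓSpecIso (CommRingCat.of V)).commRingCatIsoToRingEquiv.symm
  letI : Algebra V B₀ := ((algebraMap _ B₀).comp gam.toRingHom).toAlgebra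
  haveI : Module.FaithfullyFlat V B₀ := RingHom.faithfullyFlat_algebraMap_iff.1
    (RingHom.FaithfullyFlat.stableUnderComposition _ _ (RingHom.FaithfullyFlat.of_bijective gam.bijective)
      (RingHom.faithfullyFlat_algebraMap_iff.2 hB))
  refine ⟨B₀, instB, inferInstance, inferInstance, ⟨Over.homMk x₀.left ?_⟩⟩
  refine (Over.w x₀).trans ?_
  show Spec.map _ ≫ hU.fromSpec = Spec.map (CommRingCat.ofHom ((algebraMap _ B₀).comp gam.toRingHom))
  rw [CommRingCat.ofHom_comp, Spec.map_comp]
  congr 1
  rw [show hU.fromSpec = (Spec (CommRingCat.of V)).isoSpec.inv from IsAffineOpen.fromSpec_top]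
  exact Scheme.isoSpec_Spec_inv _

end Groth.Agent.ValTors
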