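import Groth.Agent.ValTors.Pts
import Groth.Agent.GITLib.Pushforward
import Groth.Prelude.Def_ActBC

/-!
# Isomorphisms of torsors from descent data on points
-/

set_option autoImplicit false
set_option linter.style.haveILetI false

universe u

open CategoryTheory CategoryTheory.Limits MonoidalCategory CartesianMonoidalCategory MonObj AlgebraicGeometry
open scoped TensorProduct

noncomputable section

namespace Groth.Agent.ValTors

variable {V : Type u} [CommRing V] {B : Type u} [CommRing B] [Algebra V B]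

/-- A point with values in the square from two points. -/
theorem exists_pair {T : Over (Spec (CommRingCat.of V))} (p p' : T ⟶ sA (V := V) B) :
    ∃ q : T ⟶ sA (V := V) (B ⊗[V] B), q ≫ am (Algebra.TensorProduct.includeLeft : B →ₐ[V] B ⊗[V] B) = p ∧
      q ≫ am (Algebra.TensorProduct.includeRight : B →ₐ[V] B ⊗[V] B) = p' := by
  have h : p.left ≫ Spec.map (CommRingCat.ofHom (algebraMap V B)) = p'.left ≫ Spec.map (CommRingCat.ofHom (algebraMap V B)) :=
    (Over.w p).trans (Over.w p').symm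
  let l := pullback.lift p.left p'.left h ≫ (pullbackSpecIso V B B).hom
  have h₁ : l ≫ Spec.map (CommRingCat.ofHom (Algebra.TensorProduct.includeLeft : B →ₐ[V] B ⊗[V] B).toRingHom) = p.left := by
    rw [Category.assoc]
    erw [pullbackSpecIso_hom_fst]
    exact pullback.lift_fst _ _ _
  have h₂ : l ≫ Spec.map (CommRingCat.ofHom (Algebra.TensorProduct.includeRight : B →ₐ[V] B ⊗[V] B).toRingHom) = p'.left := by
    rw [Category.assoc]
    erw [pullbackSpecIso_hom_snd]
    exact pullback.lift_snd _ _ _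
  refine ⟨Over.homMk l ?_, Over.OverMorphism.ext h₁, Over.OverMorphism.ext h₂⟩
  refine Eq.trans ?_ (Over.w p)
  show l ≫ Spec.map _ = p.left ≫ Spec.map _
  rw [← h₁, Category.assoc l, ← Spec.map_comp, ← CommRingCat.ofHom_comp]
  congr 3

theorem isLocallyTrivialFor_sA [Module.FaithfullyFlat V B] :
    NonAbH1.IsLocallyTrivialFor Scheme.fpqcPrecoverage (sA (V := V) B) := by
  let f := Spec.map (CommRingCat.ofHom (algebraMap V B))
  haveI : Flat f := HasRingHomProperty.Spec_iff.2 (RingHom.flat_algebraMap_iff.2 inferInstance)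
  haveI : Surjective f := ⟨PrimeSpectrum.comap_surjective_of_faithfullyFlat (A := V) (B := B)⟩
  haveI : QuasiCompact f := inferInstance
  refine ⟨Presieve.singleton f, f.singleton_mem_fpqcPrecoverage, ?_⟩
  rintro S' g ⟨⟩
  exact ⟨𝟙 _, Category.id_comp f⟩

variable [Module.FaithfullyFlat V B] {M X Y : Over (Spec (CommRingCat.of V))} [GrpObj M]
  {a : AlgGrp.Action M X} {b : AlgGrp.Action M Y}

/-- An equivariant isomorphism from a point of the group compatible with the two cocycles. -/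
theorem equivIso_of_pt (ha : NonAbH1.IsTorsorFor Scheme.fpqcPrecoverage a)
    (hb : NonAbH1.IsTorsorFor Scheme.fpqcPrecoverage b) (y₁ : sA (V := V) B ⟶ X) (y₂ : sA (V := V) B ⟶ Y)
    (c₁ c₂ : sA (V := V) (B ⊗[V] B) ⟶ M)
    (h₁ : lift c₁ (am (Algebra.TensorProduct.includeLeft : B →ₐ[V] B ⊗[V] B) ≫ y₁) ≫ a.act =
      am (Algebra.TensorProduct.includeRight : B →ₐ[V] B ⊗[V] B) ≫ y₁)
    (h₂ : lift c₂ (am (Algebra.TensorProduct.includeLeft : B →ₐ[V] B ⊗[V] B) ≫ y₂) ≫ b.act =
      am (Algebra.TensorProduct.includeRight : B →ₐ[V] B ⊗[V] B) ≫ y₂)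
    (τ : sA (V := V) B ⟶ M)
    (hτ : c₁ * (am (Algebra.TensorProduct.includeLeft : B →ₐ[V] B ⊗[V] B) ≫ τ) =
      (am (Algebra.TensorProduct.includeRight : B →ₐ[V] B ⊗[V] B) ≫ τ) * c₂) :
    Nonempty (NonAbH1.EquivIso a b) := by
  let d : ∀ {T : Over (Spec (CommRingCat.of V))}, (T ⟶ X) → (T ⟶ sA (V := V) B) → (T ⟶ M) :=
    fun f p => (GITLib.existsUnique_diff ha.1 (p ≫ y₁) f).exists.choose
  have hd : ∀ {T : Over (Spec (CommRingCat.of V))} (f : T ⟶ X) (p : T ⟶ sA (V := V) B),
      lift (d f p) (p ≫ y₁) ≫ a.act = f := fun f p => (GITLib.existsUnique_diff ha.1 (p ≫ y₁) f).exists.choose_spec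
  have hu : ∀ {T : Over (Spec (CommRingCat.of V))} (f : T ⟶ X) (p : T ⟶ sA (V := V) B) (g : T ⟶ M),
      lift g (p ≫ y₁) ≫ a.act = f → d f p = g := fun f p g hg =>
    (GITLib.existsUnique_diff ha.1 (p ≫ y₁) f).unique (hd f p) hg
  obtain ⟨r, hr⟩ := GITLib.exists_desc_pt (P := sA (V := V) B) (T := X) (Z := Y) isLocallyTrivialFor_sA
    (fun {T'} f p => lift (d f p * (p ≫ τ)) (p ≫ y₂) ≫ b.act)
    (fun {T' T''} k f p => by
      rw [GITLib.comp_lift_act, MonObj.comp_mul, hu (k ≫ f) (k ≫ p) (k ≫ d f p) (by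
        rw [Category.assoc, ← GITLib.comp_lift_act, hd])]
      simp only [Category.assoc])
    (fun {T'} f p p' => by
      obtain ⟨q, hq, hq'⟩ := exists_pair p p'
      have e₁ : lift (q ≫ c₁) (p ≫ y₁) ≫ a.act = p' ≫ y₁ := by
        rw [← hq, ← hq', Category.assoc, Category.assoc, ← GITLib.comp_lift_act, h₁]
      have e₂ : lift (q ≫ c₂) (p ≫ y₂) ≫ b.act = p' ≫ y₂ := by
        rw [← hq, ← hq', Category.assoc, Category.assoc, ← GITLib.comp_lift_act, h₂]
      have e₃ : (q ≫ c₁) * (p ≫ τ) = (p' ≫ τ) * (q ≫ c₂) := by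
        have h := congrArg (q ≫ ·) hτ
        simp only [MonObj.comp_mul, ← Category.assoc, hq, hq'] at h
        exact h
      have e₄ : d f p = d f p' * (q ≫ c₁) := hu f p _ (by rw [a.lift_mul_act, e₁, hd])
      rw [e₄, ← e₂, ← b.lift_mul_act, _root_.mul_assoc (d f p'), e₃, ← _root_.mul_assoc])
  have heq : a.act ≫ r = (M ◁ r) ≫ b.act := by
    refine GITLib.hom_ext_q (GITLib.pointSieve_mem (isLocallyTrivialFor_sA (V := V) (B := B)) (M ⊗ X)) ?_
    rintro T' f ⟨p⟩
    let g := f ≫ fst M X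
    let x := f ≫ snd M X
    have hf : f = lift g x := CartesianMonoidalCategory.hom_ext _ _ (by simp [g]) (by simp [x])
    rw [hf, ← Category.assoc (lift g x), hr _ p, hu (lift g x ≫ a.act) p (g * d x p) (by rw [a.lift_mul_act, hd]),
      lift_whiskerLeft_assoc, hr x p, ← b.lift_mul_act, _root_.mul_assoc]
  haveI := GITLib.isIso_of_equivariant ha hb.1 r heq
  exact ⟨⟨asIso r, heq⟩⟩

end Groth.Agent.ValTors
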