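import Groth.Agent.LaurTorus.TrivPic
import Mathlib.RingTheory.PicardGroup

/-!
# Units of the generic fibre of a faithfully flat algebra over a semilocal domain with cocycle of integral units
-/

set_option autoImplicit false
set_option linter.style.haveILetI false
set_option linter.unusedSectionVars false

universe u

open scoped TensorProduct
open Groth.Agent.SGA1Torsor

noncomputable section

namespace Groth.Agent.ValTors

variable {C : Type u} [CommRing C] [IsDomain C] (L : Type u) [Field L] [Algebra C L] [IsFractionRing C L]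
  {D : Type u} [CommRing D] [Algebra C D] [Module.FaithfullyFlat C D]

theorem jD_injective {R : Type u} [CommRing R] [Algebra C R] [Module.Flat C R] :
    Function.Injective (Algebra.TensorProduct.includeRight : R →ₐ[C] L ⊗[C] R) :=
  Algebra.TensorProduct.includeRight_injective (IsFractionRing.injective C L)

theorem exists_unit_of_rel (w : Lˣ) (v : Dˣ) (h : (w : L) ⊗ₜ[C] (1 : D) = 1 ⊗ₜ (v : D)) :
    ∃ a : Cˣ, algebraMap C L a = (w : L) := by
  have key : ∀ (w : L) (v : D), w ⊗ₜ[C] (1 : D) = 1 ⊗ₜ v → ∃ a : C, algebraMap C L a = w := by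
    intro w v h
    obtain ⟨a, b, hb, rfl⟩ := IsFractionRing.div_surjective (A := C) w
    have hbL : algebraMap C L b ≠ 0 := fun h0 => nonZeroDivisors.ne_zero hb
      (IsFractionRing.injective C L (h0.trans (map_zero _).symm))
    have h1 := congrArg (fun z => (algebraMap C L b ⊗ₜ[C] (1 : D)) * z) h
    simp only [Algebra.TensorProduct.tmul_mul_tmul, _root_.mul_one, _root_.one_mul] at h1
    rw [mul_div_cancel₀ _ hbL] at h1
    have h2 : algebraMap C D a = algebraMap C D b * v := jD_injective (C := C) L (R := D) (by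
      show (1 : L) ⊗ₜ[C] algebraMap C D a = (1 : L) ⊗ₜ[C] (algebraMap C D b * v)
      rw [← Algebra.smul_def, ← TensorProduct.smul_tmul, Algebra.algebraMap_eq_smul_one a, ← TensorProduct.smul_tmul]
      simp only [Algebra.smul_def, _root_.mul_one]
      exact h1)
    have hmem : a ∈ ((Ideal.span {b}).map (algebraMap C D)).comap (algebraMap C D) := by
      rw [Ideal.mem_comap, h2, Ideal.map_span, Set.image_singleton]
      exact Ideal.mul_mem_right _ _ (Ideal.subset_span rfl)
    rw [Ideal.comap_map_eq_self_of_faithfullyFlat, Ideal.mem_span_singleton] at hmem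
    obtain ⟨c, rfl⟩ := hmem
    exact ⟨c, by rw [map_mul, mul_div_cancel_left₀ _ hbL]⟩
  obtain ⟨a, ha⟩ := key w v h
  have h' : ((w⁻¹ : Lˣ) : L) ⊗ₜ[C] (1 : D) = 1 ⊗ₜ ((v⁻¹ : Dˣ) : D) := by
    have hu : Units.map (Algebra.TensorProduct.includeLeft : L →ₐ[C] L ⊗[C] D).toMonoidHom w =
        Units.map (Algebra.TensorProduct.includeRight : D →ₐ[C] L ⊗[C] D).toMonoidHom v := Units.ext h
    have hu' := congrArg (·⁻¹) hu
    simp only [← map_inv] at hu'
    exact congrArg Units.val hu'
  obtain ⟨a', ha'⟩ := key _ _ h'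
  exact ⟨⟨a, a', IsFractionRing.injective C L (by rw [map_mul, ha, ha', map_one, Units.mul_inv]),
    IsFractionRing.injective C L (by rw [map_mul, ha, ha', map_one, Units.inv_mul])⟩, ha⟩

/-- A unit of the generic fibre with integral cocycle is the product of a scalar and an integral unit. -/
theorem exists_char_decomp (hA : ∀ (P : Type u) [AddCommGroup P] [Module C P] [Module.Invertible C P], Module.Free C P)
    (χ : (L ⊗[C] D)ˣ) (γ : (D ⊗[C] D)ˣ)
    (h : Algebra.TensorProduct.map (AlgHom.id C L) (Algebra.TensorProduct.includeRight : D →ₐ[C] D ⊗[C] D) χ =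
      (1 : L) ⊗ₜ (γ : D ⊗[C] D) *
        Algebra.TensorProduct.map (AlgHom.id C L) (Algebra.TensorProduct.includeLeft : D →ₐ[C] D ⊗[C] D) χ) :
    ∃ (w : Lˣ) (m : Dˣ), (χ : L ⊗[C] D) = (w : L) ⊗ₜ (1 : D) * (1 : L) ⊗ₜ (m : D) := by
  have hc : a13 (γ : D ⊗[C] D) = a23 (γ : D ⊗[C] D) * a12 (γ : D ⊗[C] D) := by
    apply jD_injective (C := C) L (R := D ⊗[C] (D ⊗[C] D))
    rw [map_mul]
    let M : (D ⊗[C] D →ₐ[C] D ⊗[C] (D ⊗[C] D)) → (L ⊗[C] (D ⊗[C] D) →ₐ[C] L ⊗[C] (D ⊗[C] (D ⊗[C] D))) :=
      fun f => Algebra.TensorProduct.map (AlgHom.id C L) f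
    let lD : D →ₐ[C] D ⊗[C] D := Algebra.TensorProduct.includeLeft
    let rD : D →ₐ[C] D ⊗[C] D := Algebra.TensorProduct.includeRight
    let X : (D →ₐ[C] D ⊗[C] (D ⊗[C] D)) → L ⊗[C] (D ⊗[C] (D ⊗[C] D)) :=
      fun f => Algebra.TensorProduct.map (AlgHom.id C L) f χ
    have hM : ∀ f : D ⊗[C] D →ₐ[C] D ⊗[C] (D ⊗[C] D), X (f.comp rD) = (1 : L) ⊗ₜ f γ * X (f.comp lD) := fun f => by
      have := congrArg (M f) h
      simp only [M, map_mul, ← AlgHom.comp_apply, ← Algebra.TensorProduct.map_comp, AlgHom.id_comp] at this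
      simpa [X, lD, rD] using this
    have e1 : (a13 (A := C) (B := D)).comp rD = a23.comp rD := by ext b; simp [rD]
    have e2 : (a13 (A := C) (B := D)).comp lD = a12.comp lD := by ext b; simp [lD]
    have e3 : (a12 (A := C) (B := D)).comp rD = a23.comp lD := by ext b; simp [lD, rD]
    have hu : ∀ f : D →ₐ[C] D ⊗[C] (D ⊗[C] D), IsUnit (X f) := fun f => χ.isUnit.map _
    refine (hu (a12.comp lD)).mul_right_cancel ?_
    have h13 := hM a13
    rw [e1, hM a23, e2, ← e3, hM a12] at h13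
    simp only [Algebra.TensorProduct.includeRight_apply]
    rw [← h13]
    exact Eq.symm (mul_assoc ((1 : L) ⊗ₜ[C] a23 (γ : D ⊗[C] D)) ((1 : L) ⊗ₜ[C] a12 (γ : D ⊗[C] D)) (X (a12.comp lD)))
  obtain ⟨m, hm⟩ := LaurTorus.exists_coboundary_unit hA γ hc
  let ml := Algebra.TensorProduct.map (AlgHom.id C L) (Algebra.TensorProduct.includeLeft : D →ₐ[C] D ⊗[C] D)
  let mr := Algebra.TensorProduct.map (AlgHom.id C L) (Algebra.TensorProduct.includeRight : D →ₐ[C] D ⊗[C] D)
  let jm : (L ⊗[C] D)ˣ := Units.map (Algebra.TensorProduct.includeRight : D →ₐ[C] L ⊗[C] D).toMonoidHom m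
  have hjm : mr jm = (1 : L) ⊗ₜ (γ : D ⊗[C] D) * ml jm := by
    show mr ((1 : L) ⊗ₜ (m : D)) = _ * ml ((1 : L) ⊗ₜ (m : D))
    simp [mr, ml, hm]
  have hx : mr ((χ * jm⁻¹ : (L ⊗[C] D)ˣ) : L ⊗[C] D) = ml ((χ * jm⁻¹ : (L ⊗[C] D)ˣ) : L ⊗[C] D) := by
    refine ((jm.isUnit.map mr)).mul_right_cancel ?_
    rw [← map_mul, ← Units.val_mul, inv_mul_cancel_right, hjm, mul_left_comm, ← map_mul, ← Units.val_mul,
      inv_mul_cancel_right]
    exact h
  let δ : D →ₗ[C] D ⊗[C] D := TensorProduct.mk C D D 1 - (TensorProduct.mk C D D).flip 1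
  have hex : Function.Exact (Algebra.linearMap C D) δ := fun d => by
    constructor
    · intro hd
      exact WittExt.Amitsur.exists_of_invariant (sub_eq_zero.1 hd).symm
    · rintro ⟨c, rfl⟩
      simp only [δ, LinearMap.sub_apply, Algebra.linearMap_apply, TensorProduct.mk_apply, LinearMap.flip_apply,
        Algebra.algebraMap_eq_smul_one, TensorProduct.smul_tmul, sub_self]
  have hδ : ∀ z : L ⊗[C] D, δ.lTensor L z = mr z - ml z := fun z => by
    induction z using TensorProduct.induction_on with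
    | zero => simp
    | tmul a b => simp [δ, mr, ml]
    | add z w hz hw => rw [map_add, hz, hw, map_add, map_add]; abel
  haveI : Module.Flat C L := IsLocalization.flat L (nonZeroDivisors C)
  obtain ⟨y, hy⟩ := ((Module.Flat.lTensor_exact L hex) ((χ * jm⁻¹ : (L ⊗[C] D)ˣ) : L ⊗[C] D)).1
    (by rw [hδ, hx, sub_self])
  have hyw : ∀ y : L ⊗[C] C, (Algebra.linearMap C D).lTensor L y = (TensorProduct.rid C L y) ⊗ₜ (1 : D) := fun y => by
    induction y using TensorProduct.induction_on with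
    | zero => simp
    | tmul a b => simp [Algebra.algebraMap_eq_smul_one, TensorProduct.tmul_smul, TensorProduct.smul_tmul']
    | add z w hz hw => simp only [map_add, hz, hw, TensorProduct.add_tmul]
  rw [hyw] at hy
  have hnt : Nontrivial (L ⊗[C] D) := by
    haveI : Nontrivial D := (FaithfulSMul.algebraMap_injective C D).nontrivial
    exact (jD_injective L (R := D)).nontrivial
  have hw0 : TensorProduct.rid C L y ≠ 0 := fun h0 => (χ * jm⁻¹).ne_zero (by rw [← hy, h0, TensorProduct.zero_tmul])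
  refine ⟨Units.mk0 _ hw0, m, ?_⟩
  have := congrArg (· * (jm : L ⊗[C] D)) hy
  simp only [← Units.val_mul, inv_mul_cancel_right] at this
  exact this.symm

end Groth.Agent.ValTors
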