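import Groth.Agent.ValTors.DivLift
import Groth.Agent.ValTors.CharDecomp
import Groth.Agent.ValTors.Pts
import Mathlib.RingTheory.LocalRing.Module
import Mathlib.RingTheory.PicardGroup

/-!
# Descending the comparison point from the generic fibre
-/

set_option autoImplicit false
set_option linter.style.haveILetI false
set_option linter.unusedSectionVars false
set_option maxSynthPendingDepth 5

universe u

open CategoryTheory CategoryTheory.Limits MonoidalCategory CartesianMonoidalCategory MonObj AlgebraicGeometry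
open scoped TensorProduct

noncomputable section

namespace Groth.Agent.ValTors

variable {V : Type u} [CommRing V]

/-- A retraction of a finite free algebra over a local ring onto the base. -/
theorem exists_retraction [IsLocalRing V] (C : Type u) [CommRing C] [Algebra V C] [Module.Finite V C] [Module.Free V C]
    [Module.FaithfullyFlat V C] : ∃ r : C →ₗ[V] V, r 1 = 1 := by
  classical
  let b := Module.Free.chooseBasis V C
  obtain ⟨i, hi⟩ : ∃ i, IsUnit (b.repr 1 i) := by
    by_contra! hne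
    have h1 : (1 : C) ∈ (IsLocalRing.maximalIdeal V).map (algebraMap V C) := by
      rw [← b.sum_repr 1]
      refine sum_mem fun i _ => ?_
      rw [Algebra.smul_def]
      exact Ideal.mul_mem_right _ _ (Ideal.mem_map_of_mem _ ((IsLocalRing.mem_maximalIdeal _).2 (hne i)))
    have h2 := congrArg (Ideal.comap (algebraMap V C)) ((Ideal.eq_top_iff_one _).2 h1)
    rw [Ideal.comap_map_eq_self_of_faithfullyFlat, Ideal.comap_top] at h2
    exact (IsLocalRing.maximalIdeal.isMaximal V).ne_top h2
  exact ⟨(↑hi.unit⁻¹ : V) • b.coord i, by simp [Module.Basis.coord_apply]⟩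

variable [IsDomain V] [ValuationRing V] (K : Type u) [Field K] [Algebra V K] [IsFractionRing V K]

/-- An element of the generic fibre which becomes integral after a split faithfully flat extension is integral. -/
theorem mem_base {C B : Type u} [CommRing C] [Algebra V C] [Module.Finite V C] [Module.Free V C]
    [Module.FaithfullyFlat V C] [CommRing B] [Algebra V B] [Module.Flat V B]
    {R : Type u} [CommRing R] [Algebra V R] (q : K ⊗[V] B →ₐ[V] R) (jD : C ⊗[V] B →ₐ[V] R)
    (hjD : Function.Injective jD) (hq : ∀ b : B, q (1 ⊗ₜ b) = jD (1 ⊗ₜ b)) (z : K ⊗[V] B)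
    (hz : q z ∈ Set.range jD) : z ∈ Set.range (Algebra.TensorProduct.includeRight : B →ₐ[V] K ⊗[V] B) := by
  obtain ⟨d, hd⟩ := hz
  obtain ⟨s, β, hs, hβ⟩ : ∃ (s : V) (β : B), s ≠ 0 ∧ s • z = (1 : K) ⊗ₜ β := by
    clear hd
    induction z using TensorProduct.induction_on with
    | zero => exact ⟨1, 0, one_ne_zero, by simp⟩
    | tmul k b =>
      obtain ⟨a, s, hs, rfl⟩ := IsFractionRing.div_surjective (A := V) k
      have hs0 : algebraMap V K s ≠ 0 := fun h => nonZeroDivisors.ne_zero hs
        (IsFractionRing.injective V K (h.trans (map_zero _).symm))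
      exact ⟨s, a • b, nonZeroDivisors.ne_zero hs, by
        rw [TensorProduct.smul_tmul', Algebra.smul_def, mul_div_cancel₀ _ hs0, Algebra.algebraMap_eq_smul_one,
          TensorProduct.smul_tmul]⟩
    | add x y hx hy =>
      obtain ⟨s, β, hs, h⟩ := hx
      obtain ⟨s', β', hs', h'⟩ := hy
      refine ⟨s * s', s' • β + s • β', mul_ne_zero hs hs', ?_⟩
      rw [smul_add, mul_comm s s', mul_smul, h, mul_comm s' s, mul_smul, h', TensorProduct.tmul_add,
        TensorProduct.tmul_smul, TensorProduct.tmul_smul]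
  obtain ⟨r, hr⟩ := exists_retraction (V := V) C
  have h1 : s • d = (1 : C) ⊗ₜ[V] β := hjD (by rw [map_smul, hd, ← map_smul, hβ, hq])
  let R₁ : C ⊗[V] B →ₗ[V] B := (TensorProduct.lid V B).toLinearMap.comp (r.rTensor B)
  have h2 := congrArg R₁ h1
  have h3 : R₁ ((1 : C) ⊗ₜ[V] β) = β := by simp [R₁, hr]
  rw [map_smul, h3] at h2
  refine ⟨R₁ d, ?_⟩
  show (1 : K) ⊗ₜ[V] R₁ d = z
  have h4 : s • ((1 : K) ⊗ₜ[V] R₁ d) = s • z := by rw [hβ, ← TensorProduct.tmul_smul, h2]
  refine (IsUnit.smul_left_cancel (a := algebraMap V K s)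
    (isUnit_iff_ne_zero.2 fun h => hs (IsFractionRing.injective V K (h.trans (map_zero _).symm)))).1 ?_
  rwa [algebraMap_smul, algebraMap_smul]

variable (C : Type u) [CommRing C] [IsDomain C] [Algebra V C] [Module.Finite V C] [Algebra.Etale V C]
  [FaithfulSMul V C] [Module.Free V C] [Module.FaithfullyFlat V C] [Finite (C ≃ₐ[V] C)] [Finite (MaximalSpectrum C)]
  (L : Type u) [Field L] [Algebra C L] [IsFractionRing C L] [Algebra K L] [Algebra V L] [IsScalarTower V C L]
  [IsScalarTower V K L]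
variable {C L}

/-- Automorphisms of the fraction field over the base. -/
def gL (g : C ≃ₐ[V] C) : L →ₐ[V] L :=
  { (actL L g).toRingHom with
    commutes' := fun v => by
      show actL L g (algebraMap V L v) = algebraMap V L v
      rw [IsScalarTower.algebraMap_apply V K L, actL_base] }

theorem gL_apply (g : C ≃ₐ[V] C) (x : L) : gL K g x = actL L g x := rfl

theorem fixed_mem_K (hfix : ∀ c : C, (∀ g : C ≃ₐ[V] C, g c = c) → ∃ a : V, algebraMap V C a = c)
    (l : L) (hl : ∀ g : C ≃ₐ[V] C, actL L g l = l) : ∃ k : K, algebraMap K L k = l := by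
  classical
  letI := Fintype.ofFinite (C ≃ₐ[V] C)
  obtain ⟨a, b, hb, rfl⟩ := IsFractionRing.div_surjective (A := C) l
  have hb0 : b ≠ 0 := nonZeroDivisors.ne_zero hb
  let N : C := ∏ g : C ≃ₐ[V] C, g b
  have hN : ∀ h : C ≃ₐ[V] C, h N = N := fun h => by
    rw [map_prod]
    exact Fintype.prod_equiv (Equiv.mulLeft h) _ _ fun g => rfl
  obtain ⟨n, hn⟩ := hfix N hN
  let A : C := a * ∏ g ∈ Finset.univ.erase (1 : C ≃ₐ[V] C), g b
  have hbN : b * ∏ g ∈ Finset.univ.erase (1 : C ≃ₐ[V] C), g b = N :=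
    Finset.mul_prod_erase Finset.univ (fun g : C ≃ₐ[V] C => g b) (Finset.mem_univ 1)
  have hN0 : algebraMap C L N ≠ 0 := fun h => by
    have := IsFractionRing.injective C L (h.trans (map_zero _).symm)
    rw [Finset.prod_eq_zero_iff] at this
    obtain ⟨g, -, hg⟩ := this
    exact hb0 (g.injective (hg.trans (map_zero g).symm))
  have hAL : algebraMap C L a / algebraMap C L b * algebraMap C L N = algebraMap C L A := by
    rw [← hbN, map_mul, ← _root_.mul_assoc, div_mul_cancel₀ _ (fun h => hb0 (IsFractionRing.injective C L (h.trans (map_zero _).symm))),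
      ← map_mul]
  obtain ⟨m, hm⟩ := hfix A fun g => IsFractionRing.injective C L (by
    rw [← actL_algebraMap, ← hAL, map_mul, hl g, actL_algebraMap, hN])
  refine ⟨algebraMap V K m / algebraMap V K n, ?_⟩
  rw [map_div₀, ← IsScalarTower.algebraMap_apply, ← IsScalarTower.algebraMap_apply, IsScalarTower.algebraMap_apply V C L m,
    IsScalarTower.algebraMap_apply V C L n, hm, hn, div_eq_iff hN0, hAL]

variable {M : Over (Spec (CommRingCat.of V))} [GrpObj M] [IsAffine M.left] {Λ : Type} [AddCommGroup Λ]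
  [Module.Finite ℤ Λ]
  (e : Red.bc (Spec.map (CommRingCat.ofHom (algebraMap V C))) M ≅ Red.DS (Spec (CommRingCat.of C)) Λ)
  [IsMonHom e.hom]
variable {B : Type u} [CommRing B] [Algebra V B] [Module.FaithfullyFlat V B]

local notation "lB" => (Algebra.TensorProduct.includeLeft : B →ₐ[V] B ⊗[V] B)
local notation "rB" => (Algebra.TensorProduct.includeRight : B →ₐ[V] B ⊗[V] B)

include e in
/-- The comparison point can be chosen over the base. -/
theorem exists_pt_base (L : Type u) [Field L] [Algebra C L] [IsFractionRing C L] [Algebra K L] [Algebra V L]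
    [IsScalarTower V C L] [IsScalarTower V K L]
    (hfix : ∀ c : C, (∀ g : C ≃ₐ[V] C, g c = c) → ∃ a : V, algebraMap V C a = c)
    (c₁ c₂ : sA (V := V) (B ⊗[V] B) ⟶ M) (τ : sA (V := V) (K ⊗[V] B) ⟶ M)
    (hτ : (am (Algebra.TensorProduct.includeRight : B ⊗[V] B →ₐ[V] K ⊗[V] (B ⊗[V] B)) ≫ c₁) *
        (am (Algebra.TensorProduct.map (AlgHom.id V K) lB) ≫ τ) =
      (am (Algebra.TensorProduct.map (AlgHom.id V K) rB) ≫ τ) *
        (am (Algebra.TensorProduct.includeRight : B ⊗[V] B →ₐ[V] K ⊗[V] (B ⊗[V] B)) ≫ c₂)) :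
    ∃ τ' : sA (V := V) B ⟶ M, c₁ * (am lB ≫ τ') = (am rB ≫ τ') * c₂ := by
  classical
  have hA : ∀ (P : Type u) [AddCommGroup P] [Module C P] [Module.Invertible C P], Module.Free C P :=
    fun P _ _ _ => CommRing.Pic.subsingleton_iff.1 inferInstance P inferInstance
  have comm : ∀ {R : Type u} [CommRing R] [Algebra V R] (x y : sA (V := V) R ⟶ M), x * y = y * x :=
    fun x y => pt_comm e x y
  have hinjK : Function.Injective (algebraMap V K) := IsFractionRing.injective V K
  -- the rings over the splitting domain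
  let D := C ⊗[V] B
  let iB : B →ₐ[V] D := Algebra.TensorProduct.includeRight
  let lD : D →ₐ[C] D ⊗[C] D := Algebra.TensorProduct.includeLeft
  let rD : D →ₐ[C] D ⊗[C] D := Algebra.TensorProduct.includeRight
  let jD : D →ₐ[C] L ⊗[C] D := Algebra.TensorProduct.includeRight
  let jD2 : D ⊗[C] D →ₐ[C] L ⊗[C] (D ⊗[C] D) := Algebra.TensorProduct.includeRight
  let kL : K →ₐ[V] L ⊗[C] D := (Algebra.TensorProduct.includeLeft : L →ₐ[V] L ⊗[C] D).comp (IsScalarTower.toAlgHom V K L)
  let q : K ⊗[V] B →ₐ[V] L ⊗[C] D :=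
    Algebra.TensorProduct.lift kL ((jD.restrictScalars V).comp iB) fun _ _ => Commute.all _ _
  let κ : B ⊗[V] B →ₐ[V] D ⊗[C] D := Algebra.TensorProduct.lift ((lD.restrictScalars V).comp iB)
    ((rD.restrictScalars V).comp iB) fun _ _ => Commute.all _ _
  let q2 : K ⊗[V] (B ⊗[V] B) →ₐ[V] L ⊗[C] (D ⊗[C] D) := Algebra.TensorProduct.lift
    ((Algebra.TensorProduct.includeLeft : L →ₐ[V] L ⊗[C] (D ⊗[C] D)).comp (IsScalarTower.toAlgHom V K L))
    ((jD2.restrictScalars V).comp κ) fun _ _ => Commute.all (_ : L ⊗[C] (D ⊗[C] D)) _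
  let ml : L ⊗[C] D →ₐ[C] L ⊗[C] (D ⊗[C] D) := Algebra.TensorProduct.map (AlgHom.id C L) lD
  let mr : L ⊗[C] D →ₐ[C] L ⊗[C] (D ⊗[C] D) := Algebra.TensorProduct.map (AlgHom.id C L) rD
  have eql : q2.comp (Algebra.TensorProduct.map (AlgHom.id V K) lB) = (ml.restrictScalars V).comp q := by
    refine Algebra.TensorProduct.ext' fun k b => ?_
    simp [q2, q, ml, κ, iB, lD, jD, jD2, kL]
  have eqr : q2.comp (Algebra.TensorProduct.map (AlgHom.id V K) rB) = (mr.restrictScalars V).comp q := by
    refine Algebra.TensorProduct.ext' fun k b => ?_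
    simp [q2, q, mr, κ, iB, rD, jD, jD2, kL]
  have eqc : q2.comp (Algebra.TensorProduct.includeRight : B ⊗[V] B →ₐ[V] K ⊗[V] (B ⊗[V] B)) =
      (jD2.restrictScalars V).comp κ := AlgHom.ext fun z => by simp [q2]
  -- the characters
  let χ := P e (L ⊗[C] D) (am q ≫ τ)
  let gm := P e (D ⊗[C] D) (am κ ≫ (c₁ * c₂⁻¹))
  have hχ : LaurTorus.pushU (C' := L ⊗[C] (D ⊗[C] D)) mr.toRingHom χ =
      LaurTorus.pushU (C' := L ⊗[C] (D ⊗[C] D)) jD2.toRingHom gm + LaurTorus.pushU (C' := L ⊗[C] (D ⊗[C] D)) ml.toRingHom χ := by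
    rw [← P_am e _ mr, ← P_am e _ ml, ← P_am e _ jD2, ← P_mul]
    congr 1
    rw [am_comp, am_comp, am_comp, ← eql, ← eqr, ← eqc, ← am_comp, ← am_comp, ← am_comp, ← MonObj.comp_mul]
    congr 1
    have h := congrArg (· * (am (Algebra.TensorProduct.includeRight : B ⊗[V] B →ₐ[V] K ⊗[V] (B ⊗[V] B)) ≫ c₂)⁻¹) hτ
    simp only [_root_.mul_inv_cancel_right] at h
    rw [MonObj.comp_mul, GrpObj.comp_inv, ← h]
    rw [_root_.mul_assoc, comm (am (Algebra.TensorProduct.map (AlgHom.id V K) lB) ≫ τ), ← _root_.mul_assoc]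
  have hdec : ∀ n : Λ, ∃ (w : Lˣ) (m : Dˣ), (((χ n).toMul : (L ⊗[C] D)ˣ) : L ⊗[C] D) =
      (w : L) ⊗ₜ (1 : D) * (1 : L) ⊗ₜ (m : D) := fun n =>
    exists_char_decomp L hA (χ n).toMul (gm n).toMul (congrArg Units.val (congrArg Additive.toMul (DFunLike.congr_fun hχ n)))
  choose w m hwm using hdec
  let eL : Additive Lˣ →+ Additive (L ⊗[C] D)ˣ := MonoidHom.toAdditive
    (Units.map (Algebra.TensorProduct.includeLeft : L →ₐ[C] L ⊗[C] D).toMonoidHom)
  let jU : Additive Dˣ →+ Additive (L ⊗[C] D)ˣ := MonoidHom.toAdditive (Units.map jD.toMonoidHom)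
  have hwm' : ∀ n, χ n = eL (Additive.ofMul (w n)) + jU (Additive.ofMul (m n)) := fun n =>
    Additive.toMul.injective (Units.ext (hwm n))
  have hzero : ∀ (l : Additive Lˣ) (v : Additive Dˣ), eL l = jU v → ∀ x : MaximalSpectrum C, val V K x l = 0 := by
    intro l v h x
    obtain ⟨a, ha⟩ := exists_unit_of_rel L l.toMul v.toMul (congrArg (fun z => ((Additive.toMul z : (L ⊗[C] D)ˣ) : L ⊗[C] D)) h)
    exact val_eq_zero_of_unit x a l.toMul ha
  let f : Λ →+ (MaximalSpectrum C → VG V K) := AddMonoidHom.mk' (fun n x => val V K x (Additive.ofMul (w n)))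
    fun n n' => funext fun x => by
      have h := hzero (Additive.ofMul (w (n + n')) - Additive.ofMul (w n) - Additive.ofMul (w n'))
        (Additive.ofMul (m n) + Additive.ofMul (m n') - Additive.ofMul (m (n + n'))) (by
          have h2 := hwm' (n + n')
          rw [map_add, hwm', hwm'] at h2
          simp only [map_sub, map_add]
          rw [← sub_eq_zero] at h2 ⊢
          refine Eq.trans ?_ (neg_eq_zero.2 h2)
          abel) x
      rw [map_sub, map_sub, sub_sub, sub_eq_zero] at h
      exact h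
  -- the twist
  have hconn : ∀ x : C, IsIdempotentElem x → x = 0 ∨ x = 1 := fun x hx => IsIdempotentElem.iff_eq_zero_or_one.1 hx
  have htw : ∀ g : C ≃ₐ[V] C, ∃ ρ : Λ →ₗ[ℤ] Λ, ∀ (R : Type u) [CommRing R] (ι' : C →+* R) (k : V →+* R)
      (hk : ι'.comp (algebraMap V C) = k) (hk' : (ι'.comp (g : C →+* C)).comp (algebraMap V C) = k)
      (x : LaurTorus.src k ⟶ M), LaurTorus.pts (algebraMap V C) e (ι'.comp (g : C →+* C)) k hk' x =
        (LaurTorus.pts (algebraMap V C) e ι' k hk x).comp ρ.toAddMonoidHom :=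
    fun g => LaurTorus.exists_twist (algebraMap V C) e (g : C →+* C) (RingHom.ext g.commutes) hconn
  choose ρ hρ using htw
  -- semilinear maps fixing the point
  have hsemi : ∀ (g : C ≃ₐ[V] C) (R : Type u) [CommRing R] [Algebra V R] [Algebra C R] [IsScalarTower V C R]
      (h : R →ₐ[V] R), (∀ c, h (algebraMap C R c) = algebraMap C R (g c)) → ∀ x : sA (V := V) R ⟶ M,
      LaurTorus.pushU h.toRingHom (P e R x) = (P e R (am h ≫ x)).comp (ρ g).toAddMonoidHom := by
    intro g R _ _ _ _ h hh x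
    have hk' : ((algebraMap C R).comp (g : C →+* C)).comp (algebraMap V C) = algebraMap V R := by
      ext v
      show algebraMap C R (g (algebraMap V C v)) = _
      rw [g.commutes, ← IsScalarTower.algebraMap_apply]
    refine Eq.trans ?_ (hρ g R (algebraMap C R) (algebraMap V R) (IsScalarTower.algebraMap_eq V C R).symm hk' (am h ≫ x))
    exact (LaurTorus.pts_smap (algebraMap V C) e (algebraMap C R) (algebraMap V R)
      (IsScalarTower.algebraMap_eq V C R).symm _ (algebraMap V R) hk' h.toRingHom h.comp_algebraMap (RingHom.ext hh) x).symm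
  -- equivariance
  let Θ : L ⊗[C] D ≃ₐ[L] L ⊗[V] B := Algebra.TensorProduct.cancelBaseChange V C L L B
  let hg : (C ≃ₐ[V] C) → (L ⊗[C] D →ₐ[V] L ⊗[C] D) := fun g =>
    (Θ.symm.toAlgHom.restrictScalars V).comp
      ((Algebra.TensorProduct.map (gL K g) (AlgHom.id V B)).comp (Θ.toAlgHom.restrictScalars V))
  have hgL : ∀ g (x : L), hg g (x ⊗ₜ 1) = actL L g x ⊗ₜ (1 : D) := fun g x => by
    simp [hg, Θ, Algebra.TensorProduct.one_def, gL_apply, D]
  have hgD : ∀ g (d : D), hg g (1 ⊗ₜ d) = 1 ⊗ₜ Algebra.TensorProduct.map (g : C →ₐ[V] C) (AlgHom.id V B) d := fun g d => by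
    induction d using TensorProduct.induction_on with
    | zero => simp
    | tmul c b =>
      simp [hg, Θ, D, gL_apply, Algebra.smul_def, actL_algebraMap]
      rw [show g c ⊗ₜ[V] b = g c • ((1 : C) ⊗ₜ[V] b) by rw [TensorProduct.smul_tmul', smul_eq_mul, _root_.mul_one],
        ← TensorProduct.smul_tmul, Algebra.smul_def, _root_.mul_one]
    | add z z' hz hz' => rw [TensorProduct.tmul_add, map_add, map_add, hz, hz', TensorProduct.tmul_add]
  have hgι : ∀ g (c : C), hg g (algebraMap C (L ⊗[C] D) c) = algebraMap C (L ⊗[C] D) (g c) := fun g c => by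
    rw [Algebra.TensorProduct.algebraMap_apply, Algebra.TensorProduct.algebraMap_apply, hgL, actL_algebraMap]
  have hgq : ∀ g, (hg g).comp q = q := fun g => by
    refine Algebra.TensorProduct.ext' fun k b => ?_
    have hq : q (k ⊗ₜ b) = (algebraMap K L k) ⊗ₜ (1 : D) * (1 : L) ⊗ₜ ((1 : C) ⊗ₜ b : D) := rfl
    rw [AlgHom.comp_apply, hq, map_mul, hgL, hgD, actL_base]
    simp
  have heq : ∀ g n x, f (ρ g n) (actX g x) = f n x := fun g n x => by
    have h := DFunLike.congr_fun (hsemi g _ (hg g) (hgι g) (am q ≫ τ)) n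
    rw [am_comp, hgq] at h
    change MonoidHom.toAdditive (Units.map (hg g).toRingHom.toMonoidHom) (χ n) = χ (ρ g n) at h
    rw [hwm', hwm' (ρ g n), map_add] at h
    have e1 : MonoidHom.toAdditive (Units.map (hg g).toRingHom.toMonoidHom) (eL (Additive.ofMul (w n))) =
        eL (actU L g (Additive.ofMul (w n))) := Additive.toMul.injective (Units.ext (hgL g (w n)))
    have e2 : MonoidHom.toAdditive (Units.map (hg g).toRingHom.toMonoidHom) (jU (Additive.ofMul (m n))) =
        jU (Additive.ofMul (Units.map (Algebra.TensorProduct.map (g : C →ₐ[V] C) (AlgHom.id V B)).toMonoidHom (m n))) :=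
      Additive.toMul.injective (Units.ext (hgD g (m n)))
    rw [e1, e2] at h
    have h0 := hzero (actU L g (Additive.ofMul (w n)) - Additive.ofMul (w (ρ g n)))
      (Additive.ofMul (m (ρ g n)) - Additive.ofMul (Units.map (Algebra.TensorProduct.map (g : C →ₐ[V] C) (AlgHom.id V B)).toMonoidHom (m n)))
      (by
        rw [map_sub, map_sub, sub_eq_sub_iff_add_eq_add, h, add_comm]) (actX g x)
    rw [map_sub, sub_eq_zero, val_act] at h0
    exact h0.symm
  have hρs : ∀ g : C ≃ₐ[V] C, Function.Surjective ((ρ g).toAddMonoidHom : Λ →+ Λ) := by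
    intro g n
    let U := AddMonoidAlgebra C Λ
    let j : C →+* U := algebraMap C U
    have hgg : ∀ (g' : C ≃ₐ[V] C), ((j.comp (g' : C →+* C)).comp (algebraMap V C)) = j.comp (algebraMap V C) := fun g' => by
      rw [RingHom.comp_assoc]
      congr 1
      exact RingHom.ext g'.commutes
    have h1 : ((j.comp (g : C →+* C)).comp (g⁻¹ : C ≃ₐ[V] C)) = j := RingHom.ext fun c => by
      show j ((g * g⁻¹ : C ≃ₐ[V] C) c) = j c
      rw [mul_inv_cancel]
      rfl
    let x := (LaurTorus.pts (algebraMap V C) e j (j.comp (algebraMap V C)) rfl).symm LaurTorus.tau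
    have h2 := hρ g⁻¹ U (j.comp (g : C →+* C)) (j.comp (algebraMap V C)) (hgg g) (by rw [h1]) x
    have h3 := hρ g U j (j.comp (algebraMap V C)) rfl (hgg g) x
    have hcast : ∀ (j' : C →+* U) (h' : j'.comp (algebraMap V C) = j.comp (algebraMap V C)), j' = j →
        LaurTorus.pts (algebraMap V C) e j' (j.comp (algebraMap V C)) h' x = LaurTorus.tau := by
      rintro j' h' rfl
      exact Equiv.apply_symm_apply _ _
    rw [hcast _ _ h1, h3, Equiv.apply_symm_apply] at h2
    refine ⟨ρ g⁻¹ n, ?_⟩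
    have h4 := congrArg (fun v : Additive Uˣ => ((v.toMul : Uˣ) : U)) (DFunLike.congr_fun h2 n)
    simp only [AddMonoidHom.comp_apply, LinearMap.toAddMonoidHom_coe, LaurTorus.tau_val] at h4
    exact ((AddMonoidAlgebra.single_left_inj one_ne_zero).1 h4).symm
  have hdiff : ∀ n x y, f n x - f n y ∈ HH V K L x y := fun n x y => diff_mem_HH _ x y
  obtain ⟨t, ht, htv⟩ := exists_lift (fun g => (ρ g).toAddMonoidHom) hρs f hdiff heq
  -- the point over the generic point
  let tL := (P e L).symm t
  have htg : ∀ g, am (gL K g : L →ₐ[V] L) ≫ tL = tL := fun g => by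
    have h := hsemi g L (gL K g) (fun c => actL_algebraMap g c) tL
    have h' : LaurTorus.pushU (gL K g : L →ₐ[V] L).toRingHom (P e L tL) = (P e L tL).comp (ρ g).toAddMonoidHom := by
      rw [show P e L tL = t from Equiv.apply_symm_apply _ _]
      exact AddMonoidHom.ext fun n => (ht g n).trans rfl
    apply (P e L).injective
    refine AddMonoidHom.ext fun n => ?_
    obtain ⟨n, rfl⟩ := hρs g n
    exact DFunLike.congr_fun (h.symm.trans h') n
  obtain ⟨tK, htK⟩ := exists_factor (IsScalarTower.toAlgHom V K L) (algebraMap K L).injective tL fun z =>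
    fixed_mem_K K hfix _ fun g => by
      have h := DFunLike.congr_fun (congrArg coord (htg g)) z
      rw [coord_am] at h
      exact h
  -- the modified point
  let iK : K →ₐ[V] K ⊗[V] B := Algebra.TensorProduct.includeLeft
  let τ₁ := τ * (am iK ≫ tK)⁻¹
  have hτ₁ : P e (L ⊗[C] D) (am q ≫ τ₁) = χ - eL.comp t := by
    have e0 : q.comp iK = ((Algebra.TensorProduct.includeLeft : L →ₐ[C] L ⊗[C] D).restrictScalars V).comp
        (IsScalarTower.toAlgHom V K L) := AlgHom.ext fun k => by simp [q, iK, kL]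
    rw [MonObj.comp_mul, GrpObj.comp_inv, P_mul, P_inv, am_comp, e0, ← am_comp, htK, P_am,
      show P e L tL = t from Equiv.apply_symm_apply _ _, ← sub_eq_add_neg]
    rfl
  have hint : ∀ n, ∃ u : Dˣ, jU (Additive.ofMul u) = χ n - eL (t n) := fun n => by
    obtain ⟨a, ha⟩ := isUnit_of_val_eq_zero (V := V) (K := K) (C := C) (Additive.ofMul (w n) - t n).toMul fun x => by
      show val V K x (Additive.ofMul (w n) - t n) = 0
      rw [map_sub, htv]
      exact sub_self _
    refine ⟨Units.map (algebraMap C D).toMonoidHom a * m n, ?_⟩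
    rw [hwm', ofMul_mul, map_add, add_sub_right_comm, ← map_sub]
    congr 1
    refine Additive.toMul.injective (Units.ext ?_)
    show (1 : L) ⊗ₜ[C] algebraMap C D a = ((Additive.ofMul (w n) - t n).toMul : L) ⊗ₜ[C] (1 : D)
    rw [← ha, Algebra.algebraMap_eq_smul_one, Algebra.algebraMap_eq_smul_one, TensorProduct.smul_tmul]
  choose u hu using hint
  have hjU : Function.Injective jU := fun a b h => Additive.toMul.injective (Units.ext (jD_injective (C := C) L
    (congrArg (fun z => ((Additive.toMul z : (L ⊗[C] D)ˣ) : L ⊗[C] D)) h)))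
  let W : Λ →+ Additive Dˣ := AddMonoidHom.mk' (fun n => Additive.ofMul (u n)) fun n n' => hjU (by
    rw [map_add, hu, hu, hu, map_add, map_add, map_add]; abel)
  have hτD : am (jD.restrictScalars V) ≫ (P e D).symm W = am q ≫ τ₁ := by
    apply (P e (L ⊗[C] D)).injective
    rw [P_am, Equiv.apply_symm_apply, hτ₁]
    exact AddMonoidHom.ext fun n => hu n
  obtain ⟨τ', hτ'⟩ := exists_factor (Algebra.TensorProduct.includeRight : B →ₐ[V] K ⊗[V] B)
    (Algebra.TensorProduct.includeRight_injective hinjK) τ₁ fun z => by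
      refine mem_base K q (jD.restrictScalars V) (jD_injective (C := C) L) (fun b => ?_) _ ?_
      · simp [q, iB]; rfl
      · refine ⟨coord ((P e D).symm W) z, ?_⟩
        have h := DFunLike.congr_fun (congrArg coord hτD) z
        rw [coord_am, coord_am] at h
        exact h
  refine ⟨τ', pt_injective (Algebra.TensorProduct.includeRight : B ⊗[V] B →ₐ[V] K ⊗[V] (B ⊗[V] B))
    (Algebra.TensorProduct.includeRight_injective hinjK) ?_⟩
  show am _ ≫ (c₁ * (am lB ≫ τ')) = am _ ≫ ((am rB ≫ τ') * c₂)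
  have el : (Algebra.TensorProduct.includeRight : B ⊗[V] B →ₐ[V] K ⊗[V] (B ⊗[V] B)).comp lB =
      (Algebra.TensorProduct.map (AlgHom.id V K) lB).comp Algebra.TensorProduct.includeRight := by ext b; simp
  have er : (Algebra.TensorProduct.includeRight : B ⊗[V] B →ₐ[V] K ⊗[V] (B ⊗[V] B)).comp rB =
      (Algebra.TensorProduct.map (AlgHom.id V K) rB).comp Algebra.TensorProduct.includeRight := by ext b; simp
  have el' : (Algebra.TensorProduct.map (AlgHom.id V K) lB).comp iK =
      (Algebra.TensorProduct.map (AlgHom.id V K) rB).comp iK := by ext k; simp [iK]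
  rw [MonObj.comp_mul, MonObj.comp_mul, am_comp, am_comp, el, er, ← am_comp, ← am_comp, hτ', MonObj.comp_mul,
    MonObj.comp_mul, GrpObj.comp_inv, GrpObj.comp_inv, am_comp, am_comp, el', ← _root_.mul_assoc, hτ,
    _root_.mul_assoc, comm (am (Algebra.TensorProduct.includeRight : B ⊗[V] B →ₐ[V] K ⊗[V] (B ⊗[V] B)) ≫ c₂),
    ← _root_.mul_assoc]

end Groth.Agent.ValTors
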