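import Groth.Agent.DiagRig.MultLift
import Groth.Agent.GITLib.TorusApprox.Main
import Groth.Agent.S16173
import Groth.Agent.MultType.AdicLevel
import Mathlib.FieldTheory.IsSepClosed
import Mathlib.RingTheory.Valuation.ValuationRing

/-!
# A Galois splitting of a group of multiplicative type over a valuation ring
-/

set_option autoImplicit false
set_option linter.style.haveILetI false

universe u

open CategoryTheory MonoidalCategory CartesianMonoidalCategory MonObj GrpObj AlgebraicGeometry Limits
open scoped TensorProduct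

noncomputable section

namespace Groth.Agent.ValTors

open DiagRig

/-- A group of multiplicative type over a valuation ring is split by a Galois stable finite étale domain. -/
theorem exists_galois_split (V : Type u) [CommRing V] [IsDomain V] [ValuationRing V]
    (K : Type u) [Field K] [Algebra V K] [IsFractionRing V K]
    (M : Over (Spec (CommRingCat.of V))) [GrpObj M] (hM : SGA3x.IsMultTypeFT M) :
    ∃ (C : Type u) (_ : CommRing C) (_ : IsDomain C) (_ : Algebra V C),
      Module.Finite V C ∧ Algebra.Etale V C ∧ FaithfulSMul V C ∧ Module.FaithfullyFlat V C ∧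
      Finite (C ≃ₐ[V] C) ∧ Finite (MaximalSpectrum C) ∧
      (∀ c : C, (∀ g : C ≃ₐ[V] C, g c = c) → ∃ a : V, algebraMap V C a = c) ∧
      ∃ (Λ : Type) (_ : AddCommGroup Λ), Module.Finite ℤ Λ ∧
        Nonempty (Grp.mk (Red.bc (Spec.map (CommRingCat.ofHom (algebraMap V C))) M) ≅
          Grp.mk (Red.DS (Spec (CommRingCat.of C)) Λ)) := by
  classical
  haveI := multType_isAffineHom M hM
  haveI := multType_locallyOfFiniteType M hM
  haveI : IsAffine M.left := isAffine_of_isAffineHom M.hom
  have hloc : SplitLoc M := by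
    obtain ⟨S', f, hf, hs, hcov, hl⟩ := hM
    obtain ⟨W, hWc, hW⟩ := hcov ⊤ (isAffineOpen_top _)
    exact ⟨S', f, hf, hs, ⟨W, hWc, by simpa using hW⟩, fun s' =>
      let ⟨U, hU, N, inst, _, ⟨e⟩⟩ := hl s'; ⟨U, hU, N, inst, SplitPts.ofIso _ e, SplitPts.ofIso_inj e⟩⟩
  obtain ⟨A, _, _, e, he, hqi, hft, -⟩ := exists_qi_model M hloc
  haveI : IsIntegrallyClosed V := inferInstance
  obtain ⟨R', _, _, _, _, _, hdiag⟩ := Groth.Agent.S16173.result V A hft (MultType.AdicLevel.isMultType_of_qi hqi)
  obtain ⟨M', _, ⟨ε⟩⟩ := hdiag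
  haveI := hft
  obtain ⟨Λ, _, hfg, ⟨ε'⟩⟩ := exists_fg_model (R := V) (A := A) (fun L _ _ => inferInstance) ε
  obtain ⟨P, hP⟩ := exists_splitPts_of_bialgEquiv ε'
  obtain ⟨i₁⟩ := exists_grpIso_of_splitPts P hP
  haveI : IsMonHom e.hom := he
  have i₂ : Grp.mk (Red.bc (specP (CommRingCat.of V) R') M) ≅ Grp.mk (Red.DS (Spec (CommRingCat.of R')) Λ) :=
    ((Over.pullback (specP (CommRingCat.of V) R')).mapGrp.mapIso (Grp.mkIso' e)).symm ≪≫ i₁
  obtain ⟨⟨q, _⟩, hq⟩ := (PrimeSpectrum.comap_surjective_of_faithfullyFlat (A := V) (B := R'))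
    ⟨⊥, Ideal.isPrime_bot⟩
  have hq' : q.comap (algebraMap V R') = ⊥ := congrArg PrimeSpectrum.asIdeal hq
  let Ω := SeparableClosure K
  letI : Algebra V Ω := ((algebraMap K Ω).comp (algebraMap V K)).toAlgebra
  haveI : IsScalarTower V K Ω := IsScalarTower.of_algebraMap_eq fun _ => rfl
  obtain ⟨C, ⟨hCfin, hCfu⟩, ⟨j⟩, hstab⟩ := GITLib.TorusApprox.exists_stable (A := V) K Ω R' q hq'
  haveI := hCfin; haveI := hCfu
  haveI : IsDomain C := inferInstance
  have hinj : Function.Injective (algebraMap V C) := fun a b h => IsFractionRing.injective V K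
    ((algebraMap K Ω).injective (congrArg Subtype.val h))
  haveI : FaithfulSMul V C := (faithfulSMul_iff_algebraMap_injective V C).2 hinj
  haveI : Module.IsTorsionFree V C := Module.isTorsionFree_iff_algebraMap_injective.2 hinj
  haveI : Module.Flat V C := Module.Flat.flat_iff_torsion_eq_bot_of_isBezout.2
    (Submodule.isTorsionFree_iff_torsion_eq_bot.1 inferInstance)
  haveI : Module.Free V C := Module.free_of_flat_of_isLocalRing
  haveI : Module.FinitePresentation V C := Module.finitePresentation_of_projective V C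
  haveI : Module.FaithfullyFlat V C := inferInstance
  haveI : Algebra.FinitePresentation V C := inferInstance
  haveI : Algebra.Etale V C := Algebra.Etale.of_formallyUnramified_of_flat
  haveI hfh : Finite (C →ₐ[V] Ω) := GITLib.TorusApprox.finite_hom K Ω C
  haveI : Finite (C ≃ₐ[V] C) := Finite.of_injective (fun g => C.val.comp (g : C →ₐ[V] C))
    fun g g' h => AlgEquiv.ext fun c => Subtype.ext (DFunLike.congr_fun h c)
  haveI : Algebra.QuasiFinite V C := inferInstance
  haveI : Finite (MaximalSpectrum C) := by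
    haveI := (Algebra.QuasiFinite.finite_primesOver (R := V) (S := C) (IsLocalRing.maximalIdeal V)).to_subtype
    refine Finite.of_injective (β := ((IsLocalRing.maximalIdeal V).primesOver C)) (fun x => ⟨x.asIdeal, x.isMaximal.isPrime, ⟨?_⟩⟩)
      fun x y h => MaximalSpectrum.ext (congrArg Subtype.val h)
    haveI := x.isMaximal
    exact (IsLocalRing.eq_maximalIdeal (Ideal.isMaximal_comap_of_isIntegral_of_isMaximal x.asIdeal)).symm
  refine ⟨C, inferInstance, inferInstance, inferInstance, inferInstance, inferInstance, inferInstance, inferInstance,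
    inferInstance, inferInstance, fun c hc => ?_, Λ, inferInstance, Module.Finite.iff_addGroup_fg.mpr hfg, ?_⟩
  · have hfix : ∀ τ : Ω ≃ₐ[K] Ω, τ (c : Ω) = c := fun τ => by
      let f₁ : C →ₐ[V] C := ((τ : Ω →ₐ[K] Ω).restrictScalars V |>.comp C.val).codRestrict C fun x => hstab τ x x.2
      let f₂ : C →ₐ[V] C := ((τ.symm : Ω →ₐ[K] Ω).restrictScalars V |>.comp C.val).codRestrict C fun x => hstab τ.symm x x.2
      have h := congrArg Subtype.val (hc (AlgEquiv.ofAlgHom f₁ f₂ (AlgHom.ext fun x => Subtype.ext (τ.apply_symm_apply _))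
        (AlgHom.ext fun x => Subtype.ext (τ.symm_apply_apply _))))
      exact h
    obtain ⟨k, hk⟩ : (c : Ω) ∈ Set.range (algebraMap K Ω) :=
      (InfiniteGalois.mem_range_algebraMap_iff_fixed (c : Ω)).2 hfix
    have hint : IsIntegral V k := by
      rw [← isIntegral_algebraMap_iff (B := Ω) (algebraMap K Ω).injective, hk]
      haveI : IsScalarTower V V Ω := IsScalarTower.of_algebraMap_eq fun _ => rfl
      exact (Algebra.IsIntegral.isIntegral (R := V) c).map C.val
    obtain ⟨a, ha⟩ := IsIntegrallyClosed.isIntegral_iff.1 hint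
    exact ⟨a, Subtype.ext (by rw [← hk, ← ha]; rfl)⟩
  · refine GITLib.TorusApprox.exists_split_bc (Spec.map (CommRingCat.ofHom j.toRingHom))
      (specP (CommRingCat.of V) R') _ ?_ M Λ i₂
    show Spec.map _ ≫ Spec.map _ = Spec.map _
    rw [← Spec.map_comp, ← CommRingCat.ofHom_comp]
    congr 2
    exact j.comp_algebraMap

end Groth.Agent.ValTors
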