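import Groth.Agent.CycCover.Regular
import Groth.Agent.RegLoc.UFD
import Groth.Agent.MultType.NormalBase
import Groth.Agent.GITLib.TorusApprox.Main

/-!
# A Galois splitting over a regular semilocal domain
-/

set_option autoImplicit false
set_option linter.style.haveILetI false

universe u

open CategoryTheory MonoidalCategory CartesianMonoidalCategory MonObj GrpObj AlgebraicGeometry Limits
open scoped TensorProduct

noncomputable section

namespace Groth.Agent.ValTors.Reg

/-- A regular semilocal domain is factorial. -/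
theorem ufd_of_regular (A : Type u) [CommRing A] [IsDomain A] [IsRegularRing A] [Finite (MaximalSpectrum A)] :
    UniqueFactorizationMonoid A := by
  classical
  letI := Fintype.ofFinite (MaximalSpectrum A)
  refine UniqueFactorizationMonoid.iff_exists_prime_mem_of_isPrime.mpr fun P hP hPp => ?_
  obtain ⟨a, haP, ha⟩ := Submodule.exists_mem_ne_zero_of_ne_bot hP
  obtain ⟨p, hp, hpP⟩ := Ideal.exists_minimalPrimes_le ((Ideal.span_singleton_le_iff_mem P).mpr haP)
  have hpr : p.IsPrime := hp.1.1
  have h : ∀ x : MaximalSpectrum A, ∃ s ∉ x.asIdeal, ∃ g ∈ p, g ≠ 0 ∧ ∀ z ∈ p, g ∣ s * z := fun x => by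
    haveI := x.isMaximal
    haveI := RegLoc.UFD.uniqueFactorizationMonoid (Localization.AtPrime x.asIdeal)
    exact RegLoc.UFD.exists_notMem_dvd ha hp x.asIdeal
  choose s hs g hg hg0 hdvd using h
  obtain ⟨e, he⟩ : ∃ e : MaximalSpectrum A → A, ∀ x y, e x - (if x = y then 1 else 0) ∈ y.asIdeal := by
    have := fun x : MaximalSpectrum A => Ideal.exists_forall_sub_mem_ideal (I := fun y : MaximalSpectrum A => y.asIdeal)
      (fun i j hij => Ideal.isCoprime_iff_sup_eq.2 (i.isMaximal.coprime_of_ne j.isMaximal fun h => hij (MaximalSpectrum.ext h)))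
      (fun y => if x = y then 1 else 0)
    choose e he using this
    exact ⟨e, he⟩
  let G := ∑ x, e x * g x
  have hGp : G ∈ p := sum_mem fun x _ => p.mul_mem_left _ (hg x)
  have key : ∀ y : MaximalSpectrum A, ∃ T ∉ y.asIdeal, ∀ z ∈ p, G ∣ T * z := fun y => by
    choose c hc using fun x => hdvd y (g x) (hg x)
    have hcy : c y = s y := mul_left_cancel₀ (hg0 y) ((hc y).symm.trans (mul_comm _ _))
    refine ⟨∑ x, e x * c x, fun hT => hs y ?_, fun z hz => ?_⟩
    · have h1 : (∑ x, e x * c x) - ∑ x, (if x = y then 1 else 0) * c x ∈ y.asIdeal := by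
        rw [← Finset.sum_sub_distrib]
        exact sum_mem fun x _ => by rw [← sub_mul]; exact y.asIdeal.mul_mem_right _ (he x y)
      have h2 := y.asIdeal.sub_mem hT h1
      simpa [hcy] using h2
    · obtain ⟨d, hd⟩ := hdvd y z hz
      refine ⟨d, mul_left_cancel₀ (hg0 y) ?_⟩
      have hG : s y * G = g y * ∑ x, e x * c x := by
        rw [Finset.mul_sum, Finset.mul_sum]
        exact Finset.sum_congr rfl fun x _ => by linear_combination e x * hc x
      linear_combination (-(z : A)) * hG + G * hd
  have hdiv : ∀ z ∈ p, G ∣ z := fun z hz => by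
    let J : Ideal A :=
      { carrier := {t | G ∣ t * z}
        zero_mem' := by simp
        add_mem' := fun {t t'} h h' => by show G ∣ (t + t') * z; rw [add_mul]; exact dvd_add h h'
        smul_mem' := fun r t h => by show G ∣ r * t * z; rw [_root_.mul_assoc]; exact dvd_mul_of_dvd_right h r }
    have : J = ⊤ := by
      by_contra hne
      obtain ⟨m, hm, hle⟩ := Ideal.exists_le_maximal J hne
      obtain ⟨T, hT, hT'⟩ := key ⟨m, hm⟩
      exact hT (hle (hT' z hz))
    simpa [J] using ((Ideal.eq_top_iff_one J).1 this : (1 : A) ∈ J)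
  have hpG : p = Ideal.span {G} := le_antisymm (fun z hz => Ideal.mem_span_singleton.2 (hdiv z hz))
    ((Ideal.span_singleton_le_iff_mem p).2 hGp)
  have hG0 : G ≠ 0 := fun h0 => ha (by
    have h1 := hp.1.2 (Ideal.mem_span_singleton_self a)
    rw [hpG, h0, Ideal.span_singleton_zero] at h1
    exact (Ideal.mem_bot).1 h1)
  exact ⟨G, hpP hGp, (Ideal.span_singleton_prime hG0).mp (hpG ▸ hpr)⟩

open GITLib.TorusApprox

variable {A : Type u} [CommRing A] [IsDomain A] [IsIntegrallyClosed A]
variable (K : Type u) [Field K] [Algebra A K] [IsFractionRing A K]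
variable (Ω : Type u) [Field Ω] [Algebra K Ω] [Algebra A Ω] [IsScalarTower A K Ω]

include K in
/-- The image of a finite étale algebra over a normal domain in a field is étale. -/
theorem etale_range {B : Type u} [CommRing B] [Algebra A B] [Algebra.Etale A B] (f : B →ₐ[A] Ω) :
    Algebra.Etale A f.range := by
  classical
  let g : B →ₐ[A] K ⊗[A] B := Algebra.TensorProduct.includeRight
  have hinj : Function.Injective g := Algebra.TensorProduct.includeRight_injective (IsFractionRing.injective A K)
  have hmap : ∀ r : A, g (algebraMap A B r) = algebraMap A K r ⊗ₜ[A] (1 : B) := fun r => by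
    change (1 : K) ⊗ₜ[A] algebraMap A B r = _
    rw [Algebra.algebraMap_eq_smul_one, ← TensorProduct.smul_tmul, ← Algebra.algebraMap_eq_smul_one]
  have hloc : ∀ z : K ⊗[A] B, ∃ (r : A) (u : B), IsUnit (g (algebraMap A B r)) ∧ g (algebraMap A B r) * z = g u := fun z => by
    induction z using TensorProduct.induction_on with
    | zero => exact ⟨1, 0, by simp, by simp⟩
    | tmul k t =>
      obtain ⟨⟨a, s⟩, hk⟩ := IsLocalization.surj (nonZeroDivisors A) k
      refine ⟨s, a • t, ?_, ?_⟩
      · rw [hmap]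
        exact (IsLocalization.map_units K s).map (Algebra.TensorProduct.includeLeft : K →ₐ[A] K ⊗[A] B)
      · rw [hmap, Algebra.TensorProduct.tmul_mul_tmul, _root_.one_mul, mul_comm, hk, Algebra.algebraMap_eq_smul_one,
          TensorProduct.smul_tmul]
        rfl
    | add p q hp hq =>
      obtain ⟨r, u, hr, hu⟩ := hp
      obtain ⟨r', u', hr', hu'⟩ := hq
      refine ⟨r * r', algebraMap A B r' * u + algebraMap A B r * u', ?_, ?_⟩
      · rw [map_mul, map_mul]
        exact hr.mul hr'
      · rw [map_mul, map_mul, map_add, map_mul, map_mul, ← hu, ← hu']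
        ring
  have hb : MultType.IdemBij.IdemBij g.toRingHom :=
    MultType.NormalBase.idemBij_of_domains (R := A) (fun P _ => MultType.NormalBase.isDomain_local (R := A) P) _ hinj hloc
  obtain ⟨I, _, Ai, _, _, e, -⟩ := (Algebra.Etale.iff_exists_algEquiv_prod K (K ⊗[A] B)).mp inferInstance
  letI := Fintype.ofFinite I
  let F : K ⊗[A] B →ₐ[K] Ω := Algebra.TensorProduct.lift (Algebra.ofId K Ω) f fun _ _ => Commute.all _ _
  obtain ⟨i, hi⟩ : ∃ i, F (e.symm (Pi.single i 1)) ≠ 0 := by
    by_contra! hall
    have h1 : ∑ i, e.symm (Pi.single i (1 : Ai i)) = 1 := by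
      rw [← map_sum, ← map_one e.symm]
      exact congrArg e.symm (Finset.univ_sum_single (fun i => (1 : Ai i)))
    have := congrArg F h1
    rw [map_sum, map_one, Finset.sum_eq_zero fun i _ => hall i] at this
    exact zero_ne_one this
  have hid : IsIdempotentElem (e.symm (Pi.single i 1)) := IsIdempotentElem.map (by
    change Pi.single i (1 : Ai i) * Pi.single i 1 = Pi.single i 1
    rw [← Pi.single_mul, _root_.one_mul]) e.symm
  obtain ⟨a, ha, hae⟩ := hb.surj _ hid
  have hfa : f a = 1 := by
    have h1 : F (g a) = f a := by simp [F, g]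
    rw [show g a = e.symm (Pi.single i 1) from hae] at h1
    rcases IsIdempotentElem.iff_eq_zero_or_one.1 (hid.map F) with h | h
    · exact absurd h hi
    · rw [← h1]; exact h
  have hker : ∀ b, f b = 0 → b * a = 0 := fun b hb0 => by
    apply hinj
    rw [map_mul, map_zero, show g a = e.symm (Pi.single i 1) from hae]
    by_contra hne
    have hpt : ∀ x : Ai i, g b * e.symm (Pi.single i 1) * e.symm (Pi.single i x) = e.symm (Pi.single i (e (g b) i * x)) := fun x => by
      apply e.injective
      simp only [map_mul, AlgEquiv.apply_symm_apply]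
      funext k
      by_cases hk : k = i
      · subst hk; simp
      · simp [Pi.single_eq_of_ne hk]
    by_cases hv : e (g b) i = 0
    · refine hne (e.injective ?_)
      simp only [map_mul, AlgEquiv.apply_symm_apply, map_zero]
      funext k
      by_cases hk : k = i
      · subst hk; simp [hv]
      · simp [Pi.single_eq_of_ne hk]
    · have h2 := congrArg F (hpt (e (g b) i)⁻¹)
      rw [mul_inv_cancel₀ hv, map_mul, map_mul, show F (g b) = f b from by simp [F, g], hb0, zero_mul, zero_mul] at h2
      exact hi h2.symm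
  let J : Ideal B := Ideal.span {1 - a}
  have hJ : RingHom.ker f.rangeRestrict.toRingHom = J := by
    refine le_antisymm (fun b hb0 => Ideal.mem_span_singleton.2 ⟨b, ?_⟩) ?_
    · rw [sub_mul, _root_.one_mul, mul_comm a b, hker b (congrArg Subtype.val hb0), sub_zero]
    · rw [Ideal.span_singleton_le_iff_mem]
      exact Subtype.ext (show f (1 - a) = 0 by rw [map_sub, map_one, hfa, sub_self])
  haveI : IsLocalization.Away a (B ⧸ J) := IsLocalization.Away.quotient_of_isIdempotentElem ha
  haveI : Algebra.Etale B (B ⧸ J) := Algebra.Etale.of_isLocalizationAway a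
  haveI : Algebra.Etale A (B ⧸ J) := Algebra.Etale.comp A B (B ⧸ J)
  exact Algebra.Etale.of_equiv ((Ideal.quotientEquivAlgOfEq A hJ.symm).trans
    (Ideal.quotientKerAlgEquivOfSurjective f.rangeRestrict_surjective))

include K in
/-- A Galois stable finite étale subalgebra receiving a finite étale algebra. -/
theorem exists_stable_etale [IsSepClosed Ω] (B : Type u) [CommRing B] [Algebra A B] [Module.Finite A B]
    [Algebra.Etale A B] (q : Ideal B) [q.IsPrime] (hq : q.comap (algebraMap A B) = ⊥) :
    ∃ C : Subalgebra A Ω, Module.Finite A C ∧ Algebra.Etale A C ∧ Nonempty (B →ₐ[A] C) ∧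
      ∀ (τ : Ω ≃ₐ[K] Ω) (c : Ω), c ∈ C → τ c ∈ C := by
  classical
  let P : Subalgebra A Ω → Prop := fun S => Module.Finite A S ∧ Algebra.Etale A S
  have hr : ∀ (T : Type u) [CommRing T] [Algebra A T] [Module.Finite A T] [Algebra.Etale A T] (f : T →ₐ[A] Ω), P f.range :=
    fun T _ _ _ _ f => ⟨Module.Finite.of_surjective f.rangeRestrict.toLinearMap f.rangeRestrict_surjective,
      etale_range K Ω f⟩
  have hsup : ∀ S S' : Subalgebra A Ω, P S → P S' → P (S ⊔ S') := by
    intro S S' h h'
    haveI := h.1; haveI := h.2; haveI := h'.1; haveI := h'.2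
    haveI : Algebra.Etale A (S ⊗[A] S') := Algebra.Etale.comp A S (S ⊗[A] S')
    have e : (Algebra.TensorProduct.productMap S.val S'.val).range = S ⊔ S' := by
      rw [Algebra.TensorProduct.productMap_range, Subalgebra.range_val, Subalgebra.range_val]
    exact e ▸ hr _ _
  have hbot : P ⊥ := by
    have e : (Algebra.ofId A Ω).range = ⊥ := SetLike.ext fun x => by
      rw [Algebra.mem_bot]; rfl
    exact e ▸ hr A _
  have := finite_hom (A := A) K Ω B
  letI := Fintype.ofFinite (B →ₐ[A] Ω)
  let C : Subalgebra A Ω := Finset.univ.sup fun f : B →ₐ[A] Ω => f.range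
  have hle : ∀ f : B →ₐ[A] Ω, f.range ≤ C := fun f =>
    Finset.le_sup (f := fun f : B →ₐ[A] Ω => f.range) (Finset.mem_univ f)
  have hC : P C := by
    refine Finset.induction_on (motive := fun s => P (s.sup fun f : B →ₐ[A] Ω => f.range)) Finset.univ ?_ ?_
    · rw [Finset.sup_empty]; exact hbot
    · intro f s _ hs
      rw [Finset.sup_insert]
      exact hsup _ _ (hr B f) hs
  obtain ⟨f₀⟩ := nonempty_hom K Ω B q hq
  refine ⟨C, hC.1, hC.2, ⟨(Subalgebra.inclusion (hle f₀)).comp f₀.rangeRestrict⟩, fun τ c hc => ?_⟩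
  have hmap : C.map ((τ : Ω →ₐ[K] Ω).restrictScalars A) ≤ C := by
    rw [Subalgebra.map_le]
    refine Finset.sup_le fun f _ => ?_
    rw [← Subalgebra.map_le, ← AlgHom.range_comp]
    exact hle _
  exact hmap ⟨c, hc, rfl⟩

/-- A locally split group over a regular semilocal domain is split by a Galois stable finite étale domain. -/
theorem exists_galois_split (A : Type u) [CommRing A] [IsDomain A] [IsRegularRing A] [Finite (MaximalSpectrum A)]
    (K : Type u) [Field K] [Algebra A K] [IsFractionRing A K]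
    (M : Over (Spec (CommRingCat.of A))) [GrpObj M] {Λ : Type} [AddCommGroup Λ]
    (hM : TwC.Locally (Spec (CommRingCat.of A)) .finiteEtale
      (fun S' g => Nonempty (Grp.mk (Red.bc g M) ≅ Grp.mk (Red.DS S' Λ)))) :
    ∃ (C : Type u) (_ : CommRing C) (_ : IsDomain C) (_ : Algebra A C),
      Module.Finite A C ∧ Algebra.Etale A C ∧ FaithfulSMul A C ∧ Module.FaithfullyFlat A C ∧
      Finite (C ≃ₐ[A] C) ∧ Finite (MaximalSpectrum C) ∧ UniqueFactorizationMonoid C ∧
      (∀ c : C, (∀ g : C ≃ₐ[A] C, g c = c) → ∃ a : A, algebraMap A C a = c) ∧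
        Nonempty (Grp.mk (Red.bc (Spec.map (CommRingCat.ofHom (algebraMap A C))) M) ≅
          Grp.mk (Red.DS (Spec (CommRingCat.of C)) Λ)) := by
  classical
  haveI := ufd_of_regular A
  haveI : IsIntegrallyClosed A := inferInstance
  obtain ⟨U, g, ⟨eU⟩, hgf, hge, x, hx⟩ := exists_piece hM
  haveI : IsAffine U := isAffine_of_isAffineHom g
  obtain ⟨φ, hφ⟩ := Spec.map_surjective (U.isoSpec.inv ≫ g)
  letI : Algebra A Γ(U, ⊤) := φ.hom.toAlgebra
  haveI : IsFinite (Spec.map φ) := by rw [hφ]; infer_instance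
  haveI : Etale (Spec.map φ) := by rw [hφ]; infer_instance
  haveI : Module.Finite A Γ(U, ⊤) := RingHom.finite_algebraMap.1 ((IsFinite.SpecMap_iff φ).1 inferInstance)
  haveI : Algebra.Etale A Γ(U, ⊤) := RingHom.etale_algebraMap.1 (HasRingHomProperty.Spec_iff.1 ‹Etale (Spec.map φ)›)
  let q : PrimeSpectrum Γ(U, ⊤) := U.isoSpec.hom.base x
  have hq : q.asIdeal.comap (algebraMap A Γ(U, ⊤)) = ⊥ := by
    have h : (Spec.map φ).base q = (⟨⊥, Ideal.isPrime_bot⟩ : PrimeSpectrum A) := by
      rw [hφ, ← hx, ← Scheme.Hom.comp_apply, Iso.hom_inv_id_assoc]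
    exact congrArg PrimeSpectrum.asIdeal h
  let Ω := SeparableClosure K
  letI : Algebra A Ω := ((algebraMap K Ω).comp (algebraMap A K)).toAlgebra
  haveI : IsScalarTower A K Ω := IsScalarTower.of_algebraMap_eq fun _ => rfl
  obtain ⟨C, hCfin, hCet, ⟨j⟩, hstab⟩ := exists_stable_etale (A := A) K Ω Γ(U, ⊤) q.asIdeal hq
  haveI := hCfin; haveI := hCet
  haveI : IsDomain C := inferInstance
  have hinj : Function.Injective (algebraMap A C) := fun a b h => IsFractionRing.injective A K
    ((algebraMap K Ω).injective (congrArg Subtype.val h))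
  haveI : FaithfulSMul A C := (faithfulSMul_iff_algebraMap_injective A C).2 hinj
  haveI : Algebra.IsIntegral A C := inferInstance
  haveI : Module.FaithfullyFlat A C := Module.FaithfullyFlat.of_comap_surjective fun p => by
    obtain ⟨Q, hQ, hQp⟩ := Ideal.exists_ideal_over_prime_of_isIntegral p.asIdeal (⊥ : Ideal C)
      (by rw [← RingHom.ker_eq_comap_bot, (RingHom.injective_iff_ker_eq_bot _).1 hinj]; exact bot_le)
    exact ⟨⟨Q, hQp.1⟩, PrimeSpectrum.ext hQp.2⟩
  haveI hfh : Finite (C →ₐ[A] Ω) := finite_hom K Ω C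
  haveI : Finite (C ≃ₐ[A] C) := Finite.of_injective (fun g => C.val.comp (g : C →ₐ[A] C))
    fun g g' h => AlgEquiv.ext fun c => Subtype.ext (DFunLike.congr_fun h c)
  haveI : Finite (MaximalSpectrum C) := by
    haveI : ∀ m : MaximalSpectrum A, Finite (m.asIdeal.primesOver C) := fun m =>
      (Algebra.QuasiFinite.finite_primesOver (R := A) (S := C) m.asIdeal).to_subtype
    refine Finite.of_injective (β := Σ m : MaximalSpectrum A, m.asIdeal.primesOver C) (fun y =>
      ⟨⟨y.asIdeal.comap (algebraMap A C), haveI := y.isMaximal; Ideal.isMaximal_comap_of_isIntegral_of_isMaximal y.asIdeal⟩,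
        ⟨y.asIdeal, y.isMaximal.isPrime, ⟨rfl⟩⟩⟩) fun y z h => MaximalSpectrum.ext ?_
    exact congrArg (fun w : Σ m : MaximalSpectrum A, m.asIdeal.primesOver C => w.2.1) h
  haveI : IsRegularRing C := CycCover.isRegularRing_of_etale (R := A)
  haveI : UniqueFactorizationMonoid C := ufd_of_regular C
  refine ⟨C, inferInstance, inferInstance, inferInstance, inferInstance, inferInstance, inferInstance, inferInstance,
    inferInstance, inferInstance, inferInstance, fun c hc => ?_, ?_⟩
  · have hfix : ∀ τ : Ω ≃ₐ[K] Ω, τ (c : Ω) = c := fun τ => by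
      let f₁ : C →ₐ[A] C := ((τ : Ω →ₐ[K] Ω).restrictScalars A |>.comp C.val).codRestrict C fun x => hstab τ x x.2
      let f₂ : C →ₐ[A] C := ((τ.symm : Ω →ₐ[K] Ω).restrictScalars A |>.comp C.val).codRestrict C fun x => hstab τ.symm x x.2
      have h := congrArg Subtype.val (hc (AlgEquiv.ofAlgHom f₁ f₂ (AlgHom.ext fun x => Subtype.ext (τ.apply_symm_apply _))
        (AlgHom.ext fun x => Subtype.ext (τ.symm_apply_apply _))))
      exact h
    obtain ⟨k, hk⟩ : (c : Ω) ∈ Set.range (algebraMap K Ω) :=
      (InfiniteGalois.mem_range_algebraMap_iff_fixed (c : Ω)).2 hfix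
    have hint : IsIntegral A k := by
      rw [← isIntegral_algebraMap_iff (B := Ω) (algebraMap K Ω).injective, hk]
      haveI : IsScalarTower A A Ω := IsScalarTower.of_algebraMap_eq fun _ => rfl
      exact (Algebra.IsIntegral.isIntegral (R := A) c).map C.val
    obtain ⟨a, ha⟩ := IsIntegrallyClosed.isIntegral_iff.1 hint
    exact ⟨a, Subtype.ext (by rw [← hk, ← ha]; rfl)⟩
  · refine GITLib.TorusApprox.exists_split_bc (Spec.map (CommRingCat.ofHom j.toRingHom) ≫ U.isoSpec.inv) g _ ?_ M Λ eU
    rw [Category.assoc, ← hφ]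
    show Spec.map _ ≫ Spec.map _ = Spec.map _
    rw [← Spec.map_comp]
    congr 1
    exact CommRingCat.hom_ext j.comp_algebraMap

end Groth.Agent.ValTors.Reg
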