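import Groth.Agent.ValTors.Vals

/-!
# Galois equivariant elements with prescribed values in a finite étale domain over a valuation ring
-/

set_option autoImplicit false
set_option linter.unusedSectionVars false
set_option linter.style.haveILetI false

universe u

open scoped TensorProduct

noncomputable section

namespace Groth.Agent.ValTors

variable (V : Type u) [CommRing V] [IsDomain V] [ValuationRing V] (K : Type u) [Field K] [Algebra V K]
  [IsFractionRing V K]
variable (C : Type u) [CommRing C] [IsDomain C] [Algebra V C] [Module.Finite V C] [Algebra.Etale V C]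
  [FaithfulSMul V C]
  (L : Type u) [Field L] [Algebra C L] [IsFractionRing C L] [Algebra K L] [Algebra V L] [IsScalarTower V C L]
  [IsScalarTower V K L]

variable {V C}

/-- Automorphisms permute the maximal ideals. -/
def actX (g : C ≃ₐ[V] C) (x : MaximalSpectrum C) : MaximalSpectrum C :=
  ⟨x.asIdeal.comap (g.symm : C →+* C), by
    haveI := x.isMaximal
    exact Ideal.comap_isMaximal_of_surjective _ g.symm.surjective⟩

theorem mem_actX (g : C ≃ₐ[V] C) (x : MaximalSpectrum C) (a : C) : a ∈ (actX g x).asIdeal ↔ g.symm a ∈ x.asIdeal :=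
  Iff.rfl

theorem actX_mul (g h : C ≃ₐ[V] C) (x : MaximalSpectrum C) : actX (g * h) x = actX g (actX h x) :=
  MaximalSpectrum.ext (Ideal.ext fun a => Iff.rfl)

theorem actX_one (x : MaximalSpectrum C) : actX (1 : C ≃ₐ[V] C) x = x :=
  MaximalSpectrum.ext (Ideal.ext fun a => Iff.rfl)

variable {L}

variable (L) in
/-- Automorphisms of the fraction field. -/
def actL (g : C ≃ₐ[V] C) : L ≃+* L := IsFractionRing.ringEquivOfRingEquiv g.toRingEquiv

theorem actL_algebraMap (g : C ≃ₐ[V] C) (a : C) : actL L g (algebraMap C L a) = algebraMap C L (g a) :=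
  IsFractionRing.ringEquivOfRingEquiv_algebraMap _ _

theorem actL_mul (g h : C ≃ₐ[V] C) (u : L) : actL L (g * h) u = actL L g (actL L h u) := by
  obtain ⟨a, b, -, rfl⟩ := IsFractionRing.div_surjective (A := C) u
  simp only [map_div₀, actL_algebraMap]
  rfl

theorem actL_one (u : L) : actL L (1 : C ≃ₐ[V] C) u = u := by
  obtain ⟨a, b, -, rfl⟩ := IsFractionRing.div_surjective (A := C) u
  simp only [map_div₀, actL_algebraMap]
  rfl

theorem actL_base (g : C ≃ₐ[V] C) (c : K) : actL L g (algebraMap K L c) = algebraMap K L c := by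
  obtain ⟨a, b, -, rfl⟩ := IsFractionRing.div_surjective (A := V) c
  simp only [map_div₀, ← IsScalarTower.algebraMap_apply]
  rw [IsScalarTower.algebraMap_apply V C L a, IsScalarTower.algebraMap_apply V C L b, actL_algebraMap, actL_algebraMap,
    g.commutes, g.commutes]

variable (L) in
/-- Automorphisms on units. -/
def actU (g : C ≃ₐ[V] C) : Additive Lˣ →+ Additive Lˣ :=
  MonoidHom.toAdditive (Units.map (actL L g).toRingHom.toMonoidHom)

theorem actU_mul (g h : C ≃ₐ[V] C) (u : Additive Lˣ) : actU L (g * h) u = actU L g (actU L h u) :=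
  Additive.toMul.injective (Units.ext (actL_mul g h _))

theorem actU_one (u : Additive Lˣ) : actU L (1 : C ≃ₐ[V] C) u = u :=
  Additive.toMul.injective (Units.ext (actL_one _))

variable {K}

theorem val_act (g : C ≃ₐ[V] C) (x : MaximalSpectrum C) (u : Additive Lˣ) :
    val V K (actX g x) (actU L g u) = val V K x u := by
  obtain ⟨c, p, q, hp, hq, h⟩ := exists_decomp V K x u.toMul
  have e : val V K x u = vK V K (Additive.ofMul c) := val_eq x u.toMul c p q hp hq h
  rw [e]
  refine val_eq (actX g x) (actU L g u).toMul c (g p) (g q) ?_ ?_ ?_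
  · simpa [mem_actX] using hp
  · simpa [mem_actX] using hq
  · have := congrArg (actL L g) h
    rw [map_mul, map_mul, actL_algebraMap, actL_algebraMap, actL_base] at this
    exact this

/-- Two automorphisms which agree modulo a maximal ideal are equal. -/
theorem eq_of_agree (x : MaximalSpectrum C) {g h : C ≃ₐ[V] C} (hgh : ∀ a, g a - h a ∈ x.asIdeal) : g = h := by
  let e : C ⊗[V] C := Algebra.FormallyUnramified.elem V C
  let μ₂ : C ⊗[V] C →ₐ[V] C := Algebra.TensorProduct.lift (g : C →ₐ[V] C) (h : C →ₐ[V] C) fun _ _ => Commute.all _ _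
  haveI := x.isMaximal
  have h1 : ∀ z : C ⊗[V] C, μ₂ z - g (Algebra.TensorProduct.lmul' V z) ∈ x.asIdeal := fun z => by
    induction z using TensorProduct.induction_on with
    | zero => simp
    | tmul a b =>
      simp only [μ₂, Algebra.TensorProduct.lift_tmul, Algebra.TensorProduct.lmul'_apply_tmul, map_mul, AlgEquiv.coe_algHom]
      rw [← mul_sub]
      exact x.asIdeal.mul_mem_left _ (by rw [← neg_sub]; exact x.asIdeal.neg_mem (hgh b))
    | add z w hz hw => rw [map_add, map_add, map_add, add_sub_add_comm]; exact add_mem hz hw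
  have h2 := h1 e
  rw [Algebra.FormallyUnramified.lmul_elem, map_one] at h2
  refine AlgEquiv.ext fun a => ?_
  have h3 := congrArg μ₂ (Algebra.FormallyUnramified.one_tmul_sub_tmul_one_mul_elem (R := V) a)
  simp only [map_mul, map_sub, μ₂, Algebra.TensorProduct.lift_tmul, map_one, _root_.one_mul, mul_one, map_zero,
    AlgEquiv.coe_algHom] at h3
  rcases mul_eq_zero.1 h3 with h4 | h4
  · exact (sub_eq_zero.1 h4).symm
  · exfalso
    change μ₂ e = 0 at h4
    rw [h4, zero_sub] at h2
    exact x.isMaximal.ne_top ((Ideal.eq_top_iff_one _).2 (neg_neg (1 : C) ▸ x.asIdeal.neg_mem h2))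

variable [Finite (C ≃ₐ[V] C)] [Finite (MaximalSpectrum C)]

/-- An element whose values are invariant under a group of automorphisms can be replaced by an invariant one. -/
theorem exists_invariant (D : Subgroup (C ≃ₐ[V] C)) (p : Additive Lˣ)
    (hp : ∀ g ∈ D, ∀ x : MaximalSpectrum C, val V K x (actU L g p) = val V K x p) :
    ∃ q : Additive Lˣ, (∀ g ∈ D, actU L g q = q) ∧ ∀ x : MaximalSpectrum C, val V K x q = val V K x p := by
  classical
  letI : Fintype D := Fintype.ofFinite D
  letI : Fintype (MaximalSpectrum C) := Fintype.ofFinite _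
  have hu : ∀ g : D, ∃ a : Cˣ, algebraMap C L a = ((actU L g.1 p - p).toMul : Lˣ) := fun g =>
    isUnit_of_val_eq_zero (V := V) (K := K) _ fun x => by
      show val V K x (actU L g.1 p - p) = 0
      rw [map_sub, hp g.1 g.2 x, sub_self]
  choose a ha using hu
  let S : Setoid (MaximalSpectrum C) :=
    { r := fun x y => ∃ g ∈ D, actX g x = y
      iseqv := ⟨fun x => ⟨1, one_mem D, actX_one x⟩,
        fun {x y} ⟨g, hg, e⟩ => ⟨g⁻¹, inv_mem hg, by rw [← e, ← actX_mul, inv_mul_cancel, actX_one]⟩,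
        fun {x y z} ⟨g, hg, e⟩ ⟨g', hg', e'⟩ => ⟨g' * g, mul_mem hg' hg, by rw [actX_mul, e, e']⟩⟩ }
  have hex : ∀ O : Quotient S, ∃ r : C, ∑ g : D, g.1 r * (a g : C) ∉ O.out.asIdeal := fun O => by
    by_contra! hne
    haveI := O.out.isMaximal
    letI : Field (C ⧸ O.out.asIdeal) := Ideal.Quotient.field _
    let φ : D → (C →* C ⧸ O.out.asIdeal) := fun g =>
      (Ideal.Quotient.mk O.out.asIdeal).toMonoidHom.comp (g.1 : C →+* C).toMonoidHom
    have hφ : Function.Injective φ := fun g g' h => Subtype.ext (eq_of_agree O.out fun c =>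
      (Ideal.Quotient.eq).1 (DFunLike.congr_fun h c))
    have hli := (linearIndependent_monoidHom C (C ⧸ O.out.asIdeal)).comp φ hφ
    have := Fintype.linearIndependent_iff.1 hli (fun g => Ideal.Quotient.mk O.out.asIdeal (a g)) (funext fun c => by
      have h := Ideal.Quotient.eq_zero_iff_mem.2 (hne c)
      simp only [map_sum, map_mul] at h
      simp only [Finset.sum_apply, Pi.smul_apply, Function.comp_apply, smul_eq_mul, Pi.zero_apply]
      refine Eq.trans (Finset.sum_congr rfl fun g _ => ?_) h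
      rw [mul_comm]
      rfl) ⟨1, one_mem D⟩
    exact O.out.isMaximal.ne_top (Ideal.eq_top_of_isUnit_mem _ (Ideal.Quotient.eq_zero_iff_mem.1 this) (a _).isUnit)
  choose r hr using hex
  obtain ⟨R, hR⟩ := Ideal.exists_forall_sub_mem_ideal (I := fun x : MaximalSpectrum C => x.asIdeal)
    (fun x y hxy => Ideal.isCoprime_iff_sup_eq.2 (x.isMaximal.coprime_of_ne y.isMaximal fun h => hxy (MaximalSpectrum.ext h)))
    (fun x => r (Quotient.mk S x))
  let F : C := ∑ g : D, g.1 R * (a g : C)
  have hFL : algebraMap C L F * ((p.toMul : Lˣ) : L) = ∑ g : D, actL L g.1 (algebraMap C L R * ((p.toMul : Lˣ) : L)) := by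
    rw [map_sum, Finset.sum_mul]
    refine Finset.sum_congr rfl fun g _ => ?_
    rw [map_mul, ha g, map_mul, actL_algebraMap, mul_assoc]
    congr 1
    show ((actU L g.1 p).toMul / p.toMul : Lˣ).val * _ = _
    rw [Units.val_div_eq_div_val, div_mul_cancel₀ _ (Units.ne_zero _)]
    rfl
  have hinv : ∀ h : D, actL L h.1 (algebraMap C L F * ((p.toMul : Lˣ) : L)) = algebraMap C L F * ((p.toMul : Lˣ) : L) :=
    fun h => by
      rw [hFL, map_sum]
      refine Fintype.sum_equiv (Equiv.mulLeft h) _ _ fun g => ?_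
      rw [← actL_mul]
      rfl
  have hFout : ∀ O : Quotient S, F ∉ O.out.asIdeal := fun O hF => by
    refine hr O ?_
    have : ∀ g : D, g.1 (r O) * (a g : C) - g.1 R * (a g : C) ∈ O.out.asIdeal := fun g => by
      rw [← sub_mul, ← map_sub]
      refine O.out.asIdeal.mul_mem_right _ ?_
      have h := hR (actX (g.1)⁻¹ O.out)
      rw [show Quotient.mk S (actX (g.1)⁻¹ O.out) = O from (Quotient.sound
        (show S.r (actX (g.1)⁻¹ O.out) O.out from ⟨g.1, g.2, by rw [← actX_mul, mul_inv_cancel, actX_one]⟩)).trans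
          (Quotient.out_eq O)] at h
      have h' := (actX (g.1)⁻¹ O.out).asIdeal.neg_mem h
      rw [neg_sub, mem_actX] at h'
      exact h'
    have h' := O.out.asIdeal.add_mem hF (O.out.asIdeal.sum_mem (t := Finset.univ) fun g _ => this g)
    rwa [Finset.sum_sub_distrib, add_sub_cancel] at h'
  have hFu : IsUnit F := by
    by_contra hF
    obtain ⟨m, hm, hFm⟩ := exists_max_ideal_of_mem_nonunits hF
    let x : MaximalSpectrum C := ⟨m, hm⟩
    let O := Quotient.mk S x
    obtain ⟨g, hg, e⟩ : ∃ g ∈ D, actX g O.out = x := Quotient.exact (Quotient.out_eq O)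
    have h1 := hinv ⟨g, hg⟩
    rw [map_mul, actL_algebraMap] at h1
    have hag := ha ⟨g, hg⟩
    have h2 : algebraMap C L (g F) * algebraMap C L (a ⟨g, hg⟩) = algebraMap C L F := by
      rw [hag]
      show algebraMap C L (g F) * ((actU L g p).toMul / p.toMul : Lˣ).val = _
      rw [Units.val_div_eq_div_val, mul_div_assoc', div_eq_iff (Units.ne_zero _)]
      exact h1
    rw [← map_mul] at h2
    have h3 : g F ∈ x.asIdeal := ((x.isMaximal.isPrime.mem_or_mem
      ((IsFractionRing.injective C L h2).symm ▸ hFm)).resolve_right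
      fun hu => x.isMaximal.ne_top (Ideal.eq_top_of_isUnit_mem _ hu (a _).isUnit))
    rw [← e, mem_actX, AlgEquiv.symm_apply_apply] at h3
    exact hFout O h3
  let Fu : Lˣ := (hFu.map (algebraMap C L)).unit
  refine ⟨Additive.ofMul Fu + p, fun g hg => Additive.toMul.injective (Units.ext (hinv ⟨g, hg⟩)), fun x => ?_⟩
  rw [map_add, val_eq_zero_of_unit x hFu.unit Fu rfl, zero_add]

variable (V K L) in
/-- The values separating two maximal ideals. -/
def HH (x y : MaximalSpectrum C) : AddSubgroup (VG V K) where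
  carrier := {γ | ∃ a : Additive Lˣ, (∀ z : MaximalSpectrum C, 0 ≤ val V K z a) ∧ |γ| ≤ val V K x a ∧ val V K y a = 0}
  zero_mem' := ⟨0, fun z => by simp, by simp, map_zero _⟩
  add_mem' := by
    rintro γ γ' ⟨a, h1, h2, h3⟩ ⟨b, k1, k2, k3⟩
    exact ⟨a + b, fun z => by rw [map_add]; exact add_nonneg (h1 z) (k1 z),
      (abs_add_le γ γ').trans (by rw [map_add]; exact add_le_add h2 k2), by rw [map_add, h3, k3, add_zero]⟩
  neg_mem' := by
    rintro γ ⟨a, h1, h2, h3⟩
    exact ⟨a, h1, by rwa [abs_neg], h3⟩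

theorem mem_HH {x y : MaximalSpectrum C} {γ : VG V K} : γ ∈ HH V K L x y ↔
    ∃ a : Additive Lˣ, (∀ z : MaximalSpectrum C, 0 ≤ val V K z a) ∧ |γ| ≤ val V K x a ∧ val V K y a = 0 :=
  Iff.rfl

theorem mem_HH_of_le {x y : MaximalSpectrum C} {γ δ : VG V K} (h : |γ| ≤ |δ|) (hδ : δ ∈ HH V K L x y) :
    γ ∈ HH V K L x y := by
  obtain ⟨a, h1, h2, h3⟩ := hδ
  exact ⟨a, h1, h.trans h2, h3⟩

/-- The minimum of two elements with non-negative values. -/
theorem exists_min (a b : Additive Lˣ) (ha : ∀ z : MaximalSpectrum C, 0 ≤ val V K z a)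
    (hb : ∀ z : MaximalSpectrum C, 0 ≤ val V K z b) :
    ∃ m : Additive Lˣ, ∀ z : MaximalSpectrum C, val V K z m = min (val V K z a) (val V K z b) := by
  classical
  rcases isEmpty_or_nonempty (MaximalSpectrum C) with h | ⟨⟨z₀⟩⟩
  · exact ⟨a, fun z => (h.false z).elim⟩
  obtain ⟨a', ha'⟩ := exists_eq_of_nonneg a.toMul fun z => ha z
  obtain ⟨b', hb'⟩ := exists_eq_of_nonneg b.toMul fun z => hb z
  letI : Fintype (MaximalSpectrum C) := Fintype.ofFinite _
  obtain ⟨r, hr⟩ := Ideal.exists_forall_sub_mem_ideal (I := fun x : MaximalSpectrum C => x.asIdeal)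
    (fun x y hxy => Ideal.isCoprime_iff_sup_eq.2 (x.isMaximal.coprime_of_ne y.isMaximal fun h => hxy (MaximalSpectrum.ext h)))
    (fun x => if val V K x a ≤ val V K x b then 1 else 0)
  let m' : C := r * a' + (1 - r) * b'
  have key : ∀ z : MaximalSpectrum C, ∃ P Q : C, P ∉ z.asIdeal ∧ Q ∉ z.asIdeal ∧
      algebraMap C L m' * algebraMap C L Q =
        (((if val V K z a ≤ val V K z b then a else b).toMul : Lˣ) : L) * algebraMap C L P := fun z => by
    have hz := hr z
    haveI := z.isMaximal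
    by_cases hle : val V K z a ≤ val V K z b
    · rw [if_pos hle] at hz ⊢
      obtain ⟨p, q, hq, hpq⟩ := (val_nonneg_iff z (b - a).toMul).1 (show 0 ≤ val V K z (b - a) by
        rwa [map_sub, sub_nonneg])
      refine ⟨r * q + (1 - r) * p, q, fun h => ?_, hq, ?_⟩
      · have h1 : (1 - r) * p ∈ z.asIdeal := z.asIdeal.mul_mem_right _ (by
          rw [← neg_sub]; exact z.asIdeal.neg_mem hz)
        have hrq : r * q ∈ z.asIdeal := (Ideal.add_mem_iff_left _ h1).1 h
        have : r ∈ z.asIdeal := (z.isMaximal.isPrime.mem_or_mem hrq).resolve_right hq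
        exact z.isMaximal.ne_top ((Ideal.eq_top_iff_one _).2 (by simpa using z.asIdeal.sub_mem this hz))
      · have hb'' : algebraMap C L b' * algebraMap C L q = ((a.toMul : Lˣ) : L) * algebraMap C L p := by
          rw [hb', ← hpq, toMul_sub, Units.val_div_eq_div_val, ← mul_assoc, mul_div_cancel₀ _ (Units.ne_zero _)]
        simp only [m', map_add, map_mul, ha', add_mul, mul_assoc, hb'']
        ring
    · rw [if_neg hle] at hz ⊢
      rw [sub_zero] at hz
      obtain ⟨p, q, hq, hpq⟩ := (val_nonneg_iff z (a - b).toMul).1 (show 0 ≤ val V K z (a - b) by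
        rw [map_sub, sub_nonneg]; exact (not_le.1 hle).le)
      refine ⟨r * p + (1 - r) * q, q, fun h => ?_, hq, ?_⟩
      · have hrq : (1 - r) * q ∈ z.asIdeal := (Ideal.add_mem_iff_right _ (z.asIdeal.mul_mem_right _ hz)).1 h
        have : 1 - r ∈ z.asIdeal := (z.isMaximal.isPrime.mem_or_mem hrq).resolve_right hq
        exact z.isMaximal.ne_top ((Ideal.eq_top_iff_one _).2 (by simpa using z.asIdeal.add_mem this hz))
      · have ha'' : algebraMap C L a' * algebraMap C L q = ((b.toMul : Lˣ) : L) * algebraMap C L p := by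
          rw [ha', ← hpq, toMul_sub, Units.val_div_eq_div_val, ← mul_assoc, mul_div_cancel₀ _ (Units.ne_zero _)]
        simp only [m', map_add, map_mul, hb', add_mul, mul_assoc, ha'']
        ring
  have hm0 : algebraMap C L m' ≠ 0 := fun h => by
    obtain ⟨P, Q, hP, hQ, e⟩ := key z₀
    rw [h, zero_mul] at e
    exact (mul_ne_zero (Units.ne_zero _) fun h0 => hP (by
      rw [IsFractionRing.injective C L (h0.trans (map_zero _).symm)]; exact z₀.asIdeal.zero_mem)) e.symm
  refine ⟨Additive.ofMul (Units.mk0 _ hm0), fun z => ?_⟩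
  obtain ⟨P, Q, hP, hQ, e⟩ := key z
  obtain ⟨c, p, q, hp, hq, h⟩ := exists_decomp V K z (if val V K z a ≤ val V K z b then a else b).toMul
  haveI := z.isMaximal
  have hv : val V K z (if val V K z a ≤ val V K z b then a else b) = vK V K (Additive.ofMul c) :=
    val_eq z _ c p q hp hq h
  rw [val_eq z _ c (p * P) (q * Q) (fun h => (z.isMaximal.isPrime.mem_or_mem h).elim hp hP)
    (fun h => (z.isMaximal.isPrime.mem_or_mem h).elim hq hQ) (by
      rw [Units.val_mk0, map_mul, map_mul]
      linear_combination algebraMap C L q * e + algebraMap C L P * h), ← hv, min_def, apply_ite (val V K z)]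

theorem exists_base (γ : VG V K) : ∃ c : Additive Lˣ, ∀ z : MaximalSpectrum C, val V K z c = γ := by
  obtain ⟨c, rfl⟩ := vK_surjective γ
  exact ⟨Additive.ofMul (Units.map (algebraMap K L).toMonoidHom c.toMul), fun z => val_algebraMap z c.toMul⟩

theorem HH_symm_le (x y : MaximalSpectrum C) : HH V K L x y ≤ HH V K L y x := by
  rintro γ ⟨a, h1, h2, h3⟩
  obtain ⟨c, hc⟩ := exists_base (C := C) (L := L) |γ|
  obtain ⟨m, hm⟩ := exists_min c a (fun z => (hc z).symm ▸ abs_nonneg γ) h1
  refine ⟨c - m, fun z => by rw [map_sub, hm, sub_nonneg]; exact min_le_left _ _, ?_, ?_⟩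
  · rw [map_sub, hm, hc, h3, min_eq_right (abs_nonneg γ), sub_zero]
  · rw [map_sub, hm, hc, min_eq_left h2, sub_self]

theorem HH_self (x : MaximalSpectrum C) : HH V K L x x = ⊥ := by
  rw [eq_bot_iff]
  rintro γ ⟨a, -, h2, h3⟩
  rw [h3, abs_nonpos_iff] at h2
  exact h2

theorem diff_mem_HH (u : Additive Lˣ) (x y : MaximalSpectrum C) : val V K x u - val V K y u ∈ HH V K L x y := by
  have key : ∀ (a : Additive Lˣ), (∀ z : MaximalSpectrum C, 0 ≤ val V K z a) → ∀ x y : MaximalSpectrum C,
      val V K y a ≤ val V K x a → val V K x a - val V K y a ∈ HH V K L x y := fun a ha x y hle => by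
    obtain ⟨c, hc⟩ := exists_base (C := C) (L := L) (val V K y a)
    obtain ⟨m, hm⟩ := exists_min c a (fun z => (hc z).symm ▸ ha y) ha
    refine ⟨a - m, fun z => by rw [map_sub, hm, sub_nonneg]; exact min_le_right _ _, le_of_eq ?_, ?_⟩
    · rw [map_sub, hm, hc, min_eq_left hle, abs_of_nonneg (sub_nonneg.2 hle)]
    · rw [map_sub, hm, hc, min_self, sub_self]
  have key2 : ∀ (a : C) (ha : a ≠ 0), val V K x (uC (L := L) a ha) - val V K y (uC (L := L) a ha) ∈ HH V K L x y :=
    fun a ha => by
      rcases le_total (val V K y (uC (L := L) a ha)) (val V K x (uC (L := L) a ha)) with h | h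
      · exact key _ (fun z => val_uC_nonneg z a ha) x y h
      · rw [← neg_sub]
        exact neg_mem (HH_symm_le y x (key _ (fun z => val_uC_nonneg z a ha) y x h))
  obtain ⟨a, b, hb, hab⟩ := IsFractionRing.div_surjective (A := C) ((u.toMul : Lˣ) : L)
  have hb0 : b ≠ 0 := nonZeroDivisors.ne_zero hb
  have ha0 : a ≠ 0 := fun h => (u.toMul : Lˣ).ne_zero (by rw [← hab, h, map_zero, zero_div])
  have hu : u = uC (L := L) a ha0 - uC (L := L) b hb0 := Additive.toMul.injective (Units.ext (by
    rw [toMul_sub, Units.val_div_eq_div_val, ← hab]; rfl))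
  rw [hu, map_sub, map_sub, sub_sub_sub_comm]
  exact sub_mem (key2 a ha0) (key2 b hb0)

theorem HH_trans {H : AddSubgroup (VG V K)} {x y z : MaximalSpectrum C}
    (hxy : HH V K L x y ≤ H) (hyz : HH V K L y z ≤ H) (hconv : ∀ γ δ, |γ| ≤ |δ| → δ ∈ H → γ ∈ H) :
    HH V K L x z ≤ H := by
  rintro γ ⟨a, h1, h2, h3⟩
  have e1 := hxy (diff_mem_HH a x y)
  have e2 := hyz (diff_mem_HH a y z)
  rw [h3, sub_zero] at e2
  have := add_mem e1 e2
  rw [sub_add_cancel] at this
  exact hconv γ _ (by rwa [abs_of_nonneg (h1 x)]) this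

theorem HH_act_le (g : C ≃ₐ[V] C) (x y : MaximalSpectrum C) : HH V K L x y ≤ HH V K L (actX g x) (actX g y) := by
  rintro γ ⟨a, h1, h2, h3⟩
  refine ⟨actU L g a, fun z => ?_, by rwa [val_act], by rwa [val_act]⟩
  have := val_act (K := K) g (actX g⁻¹ z) a
  rw [← actX_mul, mul_inv_cancel, actX_one] at this
  rw [this]
  exact h1 _

/-- Units with prescribed values on the classes of maximal ideals. -/
theorem exists_indicator (H' : AddSubgroup (VG V K)) (x₀ : MaximalSpectrum C) (γ : VG V K)
    (hγ : ∀ x y : MaximalSpectrum C, ¬ HH V K L x y ≤ H' → γ ∈ HH V K L x y)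
    (hconv : ∀ γ δ, |γ| ≤ |δ| → δ ∈ H' → γ ∈ H') :
    ∃ p : Additive Lˣ, ∀ z : MaximalSpectrum C,
      (HH V K L x₀ z ≤ H' → val V K z p = γ) ∧ (¬ HH V K L x₀ z ≤ H' → val V K z p = 0) := by
  classical
  letI : Fintype (MaximalSpectrum C) := Fintype.ofFinite _
  obtain ⟨c, hc⟩ := exists_base (C := C) (L := L) |γ|
  have hP : ∀ y : MaximalSpectrum C, ¬ HH V K L x₀ y ≤ H' → ∃ P : Additive Lˣ,
      (∀ z : MaximalSpectrum C, 0 ≤ val V K z P) ∧
      (∀ z, HH V K L x₀ z ≤ H' → |γ| ≤ val V K z P) ∧ val V K y P = 0 := by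
    intro y hy
    have : ∀ z : MaximalSpectrum C, ∃ a : Additive Lˣ, (∀ w : MaximalSpectrum C, 0 ≤ val V K w a) ∧
        (HH V K L x₀ z ≤ H' → |γ| ≤ val V K z a) ∧ val V K y a = 0 := fun z => by
      by_cases hz : HH V K L x₀ z ≤ H'
      · obtain ⟨a, h1, h2, h3⟩ := mem_HH.1 (hγ z y fun h => hy (HH_trans hz h hconv))
        exact ⟨a, h1, fun _ => h2, h3⟩
      · exact ⟨0, fun w => by rw [map_zero], fun h => absurd h hz, map_zero _⟩
    choose a ha1 ha2 ha3 using this
    refine ⟨∑ z, a z, fun w => ?_, fun z hz => ?_, ?_⟩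
    · rw [map_sum]; exact Finset.sum_nonneg fun i _ => ha1 i w
    · rw [map_sum]
      exact (ha2 z hz).trans (Finset.single_le_sum (f := fun i => val V K z (a i)) (fun i _ => ha1 i z)
        (Finset.mem_univ z))
    · rw [map_sum]; exact Finset.sum_eq_zero fun i _ => ha3 i
  have hex : ∀ T : Finset (MaximalSpectrum C), ∃ m : Additive Lˣ, (∀ z, 0 ≤ val V K z m) ∧
      (∀ z, HH V K L x₀ z ≤ H' → val V K z m = |γ|) ∧ (∀ z ∈ T, ¬ HH V K L x₀ z ≤ H' → val V K z m = 0) := fun T => by
    induction T using Finset.induction_on with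
    | empty => exact ⟨c, fun z => (hc z).symm ▸ abs_nonneg γ, fun z _ => hc z, fun z hz => absurd hz (Finset.notMem_empty z)⟩
    | insert y T _ ih =>
      obtain ⟨m, h0, h1, h2⟩ := ih
      by_cases hy : HH V K L x₀ y ≤ H'
      · refine ⟨m, h0, h1, fun z hz hne => ?_⟩
        rcases Finset.mem_insert.1 hz with rfl | hz
        · exact absurd hy hne
        · exact h2 z hz hne
      · obtain ⟨P, hP0, hP1, hP2⟩ := hP y hy
        obtain ⟨m', hm'⟩ := exists_min m P h0 hP0
        refine ⟨m', fun z => by rw [hm']; exact le_min (h0 z) (hP0 z),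
          fun z hz => by rw [hm', h1 z hz]; exact min_eq_left (hP1 z hz), fun z hz hne => ?_⟩
        rw [hm']
        rcases Finset.mem_insert.1 hz with rfl | hz
        · rw [hP2]; exact min_eq_right (h0 _)
        · rw [h2 z hz hne]; exact min_eq_left (hP0 z)
  obtain ⟨m, -, h1, h2⟩ := hex Finset.univ
  rcases le_total 0 γ with h | h
  · exact ⟨m, fun z => ⟨fun hz => (h1 z hz).trans (abs_of_nonneg h), fun hz => h2 z (Finset.mem_univ z) hz⟩⟩
  · refine ⟨-m, fun z => ⟨fun hz => ?_, fun hz => ?_⟩⟩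
    · rw [map_neg, h1 z hz, abs_of_nonpos h, neg_neg]
    · rw [map_neg, h2 z (Finset.mem_univ z) hz, neg_zero]

variable {Λ : Type} [AddCommGroup Λ] [Module.Finite ℤ Λ] (ρ : (C ≃ₐ[V] C) → Λ →+ Λ)

/-- One step of the lifting: equivariant values which live in `H` can be reduced into the next smaller subgroup. -/
theorem exists_step (H H' : AddSubgroup (VG V K)) (hle : H' ≤ H) (hconv : ∀ γ δ, |γ| ≤ |δ| → δ ∈ H' → γ ∈ H')
    (hsep : ∀ x y : MaximalSpectrum C, ¬ HH V K L x y ≤ H' → H ≤ HH V K L x y)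
    (f : Λ →+ (MaximalSpectrum C → VG V K)) (hmem : ∀ n x, f n x ∈ H)
    (hdiff : ∀ n x y, f n x - f n y ∈ HH V K L x y) (heq : ∀ g n x, f (ρ g n) (actX g x) = f n x) :
    ∃ t : Λ →+ Additive Lˣ, (∀ g n, actU L g (t n) = t (ρ g n)) ∧ ∀ n x, f n x - val V K x (t n) ∈ H' := by
  classical
  letI : Fintype (MaximalSpectrum C) := Fintype.ofFinite _
  let Φ : (MaximalSpectrum C → Λ) →+ (VG V K ⧸ H') :=
    AddMonoidHom.mk' (fun v => ∑ x, QuotientAddGroup.mk (f (v x) x)) fun v w => by
      simp only [Pi.add_apply, map_add, QuotientAddGroup.mk_add, Finset.sum_add_distrib]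
  let P := LinearMap.range Φ.toIntLinearMap
  have htf : IsAddTorsionFree (VG V K ⧸ H') := ⟨fun k hk a b hab => by
    induction a using QuotientAddGroup.induction_on with
    | _ a =>
    induction b using QuotientAddGroup.induction_on with
    | _ b =>
    change QuotientAddGroup.mk (k • a) = QuotientAddGroup.mk (k • b) at hab
    rw [QuotientAddGroup.eq_iff_sub_mem, ← nsmul_sub] at hab
    rw [QuotientAddGroup.eq_iff_sub_mem]
    refine hconv _ _ ?_ hab
    rw [abs_nsmul]
    exact le_self_nsmul (abs_nonneg _) hk⟩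
  haveI : IsAddTorsionFree P := Function.Injective.isAddTorsionFree P.subtype.toAddMonoidHom Subtype.val_injective
  haveI : Module.Finite ℤ P := Module.Finite.range _
  haveI : Module.Free ℤ P := Module.free_of_finite_type_torsion_free'
  let b := Module.Free.chooseBasis ℤ P
  have hlift : ∀ j, ∃ γ : VG V K, γ ∈ H ∧ (QuotientAddGroup.mk γ : VG V K ⧸ H') = (b j : VG V K ⧸ H') := fun j => by
    obtain ⟨v, hv⟩ := LinearMap.mem_range.1 (b j).2
    refine ⟨∑ x, f (v x) x, sum_mem fun x _ => hmem _ _, ?_⟩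
    rw [← hv]
    exact QuotientAddGroup.mk_sum _ _
  choose γ hγH hγ using hlift
  have hin : ∀ n x, (QuotientAddGroup.mk (f n x) : VG V K ⧸ H') ∈ P := fun n x => ⟨Pi.single x n, by
    show ∑ y, _ = _
    rw [Finset.sum_eq_single x (fun y _ hy => by simp [hy]) (by simp), Pi.single_eq_same]⟩
  let rel : Setoid (MaximalSpectrum C) :=
    { r := fun x y => HH V K L x y ≤ H'
      iseqv := ⟨fun x => by rw [HH_self]; exact bot_le, fun {x y} h => (HH_symm_le y x).trans h,
        fun {x y z} h h' => HH_trans h h' hconv⟩ }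
  let ac : (C ≃ₐ[V] C) → Quotient rel → Quotient rel := fun g =>
    Quotient.map (actX g) fun x y h => show HH V K L (actX g x) (actX g y) ≤ H' from
      le_trans (by
        have := HH_act_le (K := K) (L := L) g⁻¹ (actX g x) (actX g y)
        simpa [← actX_mul, actX_one] using this) h
  have ac_mul : ∀ g h c, ac (g * h) c = ac g (ac h c) := fun g h c =>
    Quotient.inductionOn c fun x => congrArg (Quotient.mk rel) (actX_mul g h x)
  have ac_one : ∀ c, ac 1 c = c := fun c => Quotient.inductionOn c fun x => congrArg (Quotient.mk rel) (actX_one x)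
  have hp : ∀ (c : Quotient rel) j, ∃ p : Additive Lˣ, ∀ z,
      val V K z p = if Quotient.mk rel z = c then γ j else 0 := fun c j => by
    obtain ⟨p, hp⟩ := exists_indicator (L := L) H' c.out (γ j) (fun x y h => hsep x y h (hγH j)) hconv
    refine ⟨p, fun z => ?_⟩
    have hiff : Quotient.mk rel z = c ↔ HH V K L c.out z ≤ H' :=
      ⟨fun h => Quotient.exact (((Quotient.out_eq c).trans h.symm : Quotient.mk rel c.out = Quotient.mk rel z)),
        fun h => ((Quotient.sound (show rel.r c.out z from h)).symm.trans (Quotient.out_eq c))⟩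
    split_ifs with h
    · exact (hp z).1 (hiff.1 h)
    · exact (hp z).2 fun h' => h (hiff.2 h')
  choose p hp using hp
  have hpact : ∀ g c j z, val V K z (actU L g (p c j)) = val V K z (p (ac g c) j) := fun g c j z => by
    have := val_act (K := K) g (actX g⁻¹ z) (p c j)
    rw [← actX_mul, mul_inv_cancel, actX_one] at this
    rw [this, hp, hp]
    congr 1
    refine propext ⟨fun h => ?_, fun h => ?_⟩
    · rw [← h]
      show _ = ac g (Quotient.mk rel (actX g⁻¹ z))
      exact congrArg (Quotient.mk rel) (show z = actX g (actX g⁻¹ z) by rw [← actX_mul, mul_inv_cancel, actX_one])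
    · rw [show Quotient.mk rel (actX g⁻¹ z) = ac g⁻¹ (Quotient.mk rel z) from rfl, h, ← ac_mul, inv_mul_cancel, ac_one]
  let orb : Setoid (Quotient rel) :=
    { r := fun c c' => ∃ g, ac g c = c'
      iseqv := ⟨fun c => ⟨1, ac_one c⟩, fun {c c'} ⟨g, e⟩ => ⟨g⁻¹, by rw [← e, ← ac_mul, inv_mul_cancel, ac_one]⟩,
        fun {c c' c''} ⟨g, e⟩ ⟨g', e'⟩ => ⟨g' * g, by rw [ac_mul, e, e']⟩⟩ }
  let rep : Quotient rel → Quotient rel := fun c => (Quotient.mk orb c).out
  have hrep : ∀ g c, rep (ac g c) = rep c := fun g c =>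
    congrArg Quotient.out (Quotient.sound (show orb.r c (ac g c) from ⟨g, rfl⟩)).symm
  have htr : ∀ c, ∃ g, ac g (rep c) = c := fun c => Quotient.exact (Quotient.out_eq (Quotient.mk orb c))
  choose tr htr using htr
  let D : Quotient rel → Subgroup (C ≃ₐ[V] C) := fun c =>
    { carrier := {g | ac g c = c}
      one_mem' := ac_one c
      mul_mem' := fun {g h} hg hh => by
        show ac (g * h) c = c
        rw [ac_mul, hh, hg]
      inv_mem' := fun {g} hg => by
        show ac g⁻¹ c = c
        conv_lhs => rw [← hg, ← ac_mul, inv_mul_cancel, ac_one] }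
  have hq : ∀ c j, ∃ q : Additive Lˣ, (∀ g ∈ D c, actU L g q = q) ∧ ∀ z, val V K z q = val V K z (p c j) := fun c j =>
    exists_invariant (D c) (p c j) fun g hg z => by rw [hpact, show ac g c = c from hg]
  choose q hq1 hq2 using hq
  let π : Quotient rel → _ → Additive Lˣ := fun c j => actU L (tr c) (q (rep c) j)
  have hπ : ∀ g c j, actU L g (π c j) = π (ac g c) j := fun g c j => by
    have hmem' : (tr (ac g c))⁻¹ * (g * tr c) ∈ D (rep c) := by
      show ac _ (rep c) = rep c
      rw [ac_mul, ac_mul, htr c]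
      have h := congrArg (ac (tr (ac g c))⁻¹) (htr (ac g c))
      rw [← ac_mul, inv_mul_cancel, ac_one, hrep] at h
      exact h.symm
    have := congrArg (actU L (tr (ac g c))) (hq1 (rep c) j _ hmem')
    rw [← actU_mul, mul_inv_cancel_left, actU_mul] at this
    show actU L g (actU L (tr c) _) = actU L (tr (ac g c)) (q (rep (ac g c)) j)
    rw [hrep g c]
    exact this
  have hπv : ∀ c j z, val V K z (π c j) = if Quotient.mk rel z = c then γ j else 0 := fun c j z => by
    have h := hpact (tr c) (rep c) j z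
    rw [htr c, hp] at h
    rw [← h]
    have e1 := val_act (K := K) (tr c) (actX (tr c)⁻¹ z) (q (rep c) j)
    have e2 := val_act (K := K) (tr c) (actX (tr c)⁻¹ z) (p (rep c) j)
    rw [← actX_mul, mul_inv_cancel, actX_one] at e1 e2
    rw [e1, e2, hq2]
  let co : Quotient rel → Λ → P := fun c n => Quotient.liftOn c (fun x => (⟨_, hin n x⟩ : P)) fun x y h =>
    Subtype.ext (QuotientAddGroup.eq_iff_sub_mem.2 ((show HH V K L x y ≤ H' from h) (hdiff n x y)))
  have co_add : ∀ c n m, co c (n + m) = co c n + co c m := fun c n m => Quotient.inductionOn c fun x =>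
    Subtype.ext (by
      show (QuotientAddGroup.mk (f (n + m) x) : VG V K ⧸ H') = _
      rw [map_add, Pi.add_apply, QuotientAddGroup.mk_add]
      rfl)
  have co_eq : ∀ g c n, co (ac g c) (ρ g n) = co c n := fun g c n => Quotient.inductionOn c fun x =>
    Subtype.ext (congrArg (QuotientAddGroup.mk) (heq g n x))
  haveI : Fintype (Quotient rel) := Fintype.ofFinite _
  let t : Λ →+ Additive Lˣ := AddMonoidHom.mk' (fun n => ∑ c : Quotient rel, ∑ j, b.repr (co c n) j • π c j)
    fun n m => by
      simp [co_add, map_add, add_zsmul, Finset.sum_add_distrib]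
  refine ⟨t, fun g n => ?_, fun n z => ?_⟩
  · show actU L g (∑ c : Quotient rel, ∑ j, b.repr (co c n) j • π c j) = ∑ c : Quotient rel, ∑ j, b.repr (co c (ρ g n)) j • π c j
    simp only [map_sum, map_zsmul, hπ]
    refine Fintype.sum_bijective (ac g) (Function.bijective_iff_has_inverse.2
      ⟨ac g⁻¹, fun c => by rw [← ac_mul, inv_mul_cancel, ac_one], fun c => by rw [← ac_mul, mul_inv_cancel, ac_one]⟩)
      _ _ fun c => ?_
    rw [co_eq]
  · rw [← QuotientAddGroup.eq_iff_sub_mem]
    show (QuotientAddGroup.mk' H') (f n z) =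
      (QuotientAddGroup.mk' H') (val V K z (∑ c : Quotient rel, ∑ j, b.repr (co c n) j • π c j))
    simp only [map_sum, map_zsmul, hπv]
    rw [Finset.sum_eq_single (Quotient.mk rel z) (fun c _ hc => by simp [hc.symm]) (by simp)]
    simp only [if_true, QuotientAddGroup.mk'_apply, hγ]
    have := congrArg Subtype.val (b.sum_repr (co (Quotient.mk rel z) n))
    simp only [AddSubmonoidClass.coe_finset_sum, SetLike.val_smul] at this
    exact this.symm

/-- Equivariant values come from equivariant units. -/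
theorem exists_lift (hρ : ∀ (g : C ≃ₐ[V] C), Function.Surjective (ρ g)) (f : Λ →+ (MaximalSpectrum C → VG V K))
    (hdiff : ∀ n x y, f n x - f n y ∈ HH V K L x y) (heq : ∀ g n x, f (ρ g n) (actX g x) = f n x) :
    ∃ t : Λ →+ Additive Lˣ, (∀ g n, actU L g (t n) = t (ρ g n)) ∧ ∀ n x, val V K x (t n) = f n x := by
  classical
  letI : Fintype (MaximalSpectrum C) := Fintype.ofFinite _
  let S : Finset (AddSubgroup (VG V K)) :=
    insert ⊥ (Finset.univ.image fun xy : MaximalSpectrum C × MaximalSpectrum C => HH V K L xy.1 xy.2)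
  have hconvS : ∀ A ∈ S, ∀ γ δ, |γ| ≤ |δ| → δ ∈ A → γ ∈ A := by
    intro A hA γ δ h hδ
    rcases Finset.mem_insert.1 hA with rfl | hA
    · rw [AddSubgroup.mem_bot] at hδ ⊢
      rw [hδ, abs_zero, abs_nonpos_iff] at h
      exact h
    · obtain ⟨⟨x, y⟩, -, rfl⟩ := Finset.mem_image.1 hA
      exact mem_HH_of_le h hδ
  have htot : ∀ A ∈ S, ∀ B ∈ S, A ≤ B ∨ B ≤ A := by
    intro A hA B hB
    by_contra! h
    obtain ⟨γ, hγA, hγB⟩ := SetLike.not_le_iff_exists.1 h.1
    obtain ⟨δ, hδB, hδA⟩ := SetLike.not_le_iff_exists.1 h.2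
    rcases le_total |γ| |δ| with h' | h'
    · exact hγB (hconvS B hB γ δ h' hδB)
    · exact hδA (hconvS A hA δ γ h' hγA)
  suffices key : ∀ (k : ℕ) (H : AddSubgroup (VG V K)), (S.filter fun A => A < H).card ≤ k →
      (∀ x y : MaximalSpectrum C, HH V K L x y ≤ H ∨ H ≤ HH V K L x y) →
      (∀ A ∈ S, A ≤ H ∨ H ≤ A) →
      ∀ f : Λ →+ (MaximalSpectrum C → VG V K), (∀ n x, f n x ∈ H) → (∀ n x y, f n x - f n y ∈ HH V K L x y) →
      (∀ g n x, f (ρ g n) (actX g x) = f n x) →
      ∃ t : Λ →+ Additive Lˣ, (∀ g n, actU L g (t n) = t (ρ g n)) ∧ ∀ n x, val V K x (t n) = f n x by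
    exact key _ ⊤ le_rfl (fun x y => Or.inl le_top) (fun A _ => Or.inl le_top) f (fun n x => trivial) hdiff heq
  intro k
  induction k with
  | zero =>
    intro H hk _ hS f hmem _ _
    refine ⟨0, fun g n => by simp, fun n x => ?_⟩
    have hbot : H ≤ ⊥ := by
      by_contra hne
      rw [Nat.le_zero, Finset.card_eq_zero, Finset.filter_eq_empty_iff] at hk
      rcases hS ⊥ (Finset.mem_insert_self _ _) with h | h
      · exact hk (Finset.mem_insert_self _ _) (lt_of_le_of_ne h fun e => hne e.ge)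
      · exact hne h
    rw [AddMonoidHom.zero_apply, map_zero, (AddSubgroup.mem_bot.1 (hbot (hmem n x)))]
  | succ k ih =>
    intro H hk hH hS f hmem hdiff heq
    rcases (S.filter fun A => A < H).eq_empty_or_nonempty with he | hne
    · exact ih H (by rw [he]; simp) hH hS f hmem hdiff heq
    obtain ⟨H', hH'mem, hmax⟩ := (S.filter fun A => A < H).exists_maximal hne
    obtain ⟨hH'S, hlt⟩ := Finset.mem_filter.1 hH'mem
    have hin : ∀ x y, HH V K L x y ∈ S := fun x y =>
      Finset.mem_insert_of_mem (Finset.mem_image.2 ⟨(x, y), Finset.mem_univ _, rfl⟩)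
    have hsep : ∀ x y : MaximalSpectrum C, ¬ HH V K L x y ≤ H' → H ≤ HH V K L x y := by
      intro x y h
      rcases hH x y with h' | h'
      · rcases eq_or_lt_of_le h' with e | e
        · exact e.ge
        · exfalso
          rcases htot _ (hin x y) H' hH'S with h'' | h''
          · exact h h''
          · exact h (hmax (Finset.mem_filter.2 ⟨hin x y, e⟩) h'')
      · exact h'
    obtain ⟨t₁, ht₁, hv₁⟩ := exists_step ρ H H' hlt.le (hconvS H' hH'S) hsep f hmem hdiff heq
    let f₁ : Λ →+ (MaximalSpectrum C → VG V K) :=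
      f - AddMonoidHom.mk' (fun n x => val V K x (t₁ n)) fun n m => funext fun x => by simp
    have hcard : (S.filter fun A => A < H').card ≤ k := by
      refine Nat.lt_succ_iff.1 (lt_of_lt_of_le (Finset.card_lt_card ?_) hk)
      refine Finset.ssubset_iff_of_subset (fun A hA => ?_) |>.2 ⟨H', hH'mem, fun h => lt_irrefl _ (Finset.mem_filter.1 h).2⟩
      exact Finset.mem_filter.2 ⟨(Finset.mem_filter.1 hA).1, (Finset.mem_filter.1 hA).2.trans hlt⟩
    obtain ⟨t₂, ht₂, hv₂⟩ := ih H' hcard (fun x y => htot _ (hin x y) H' hH'S) (fun A hA => htot A hA H' hH'S) f₁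
      (fun n x => hv₁ n x)
      (fun n x y => by
        show (f n x - val V K x (t₁ n)) - (f n y - val V K y (t₁ n)) ∈ _
        rw [sub_sub_sub_comm]
        exact sub_mem (hdiff n x y) (diff_mem_HH _ x y))
      (fun g n x => by
        show f (ρ g n) (actX g x) - val V K (actX g x) (t₁ (ρ g n)) = f n x - val V K x (t₁ n)
        rw [heq, ← ht₁, val_act])
    refine ⟨t₁ + t₂, fun g n => ?_, fun n x => ?_⟩
    · simp only [AddMonoidHom.add_apply, map_add, ht₁, ht₂]
    · rw [AddMonoidHom.add_apply, map_add, hv₂]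
      exact add_sub_cancel _ _

end Groth.Agent.ValTors
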