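import Groth.Agent.SGA1Torsor.Basic
import Mathlib.RingTheory.UniqueFactorizationDomain.Basic
import Mathlib.RingTheory.Etale.Basic
import Mathlib.RingTheory.Spectrum.Maximal.Basic
import Mathlib.LinearAlgebra.LinearIndependent.Basic
import Mathlib

/-!
# Galois equivariant elements with prescribed divisors in a factorial semilocal finite étale domain
-/

set_option autoImplicit false
set_option linter.unusedSectionVars false
set_option linter.style.haveILetI false

universe u

open scoped TensorProduct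

noncomputable section

namespace Groth.Agent.ValTors.Reg

variable {V : Type u} [CommRing V] [IsDomain V] (K : Type u) [Field K] [Algebra V K] [IsFractionRing V K]
variable {C : Type u} [CommRing C] [IsDomain C] [Algebra V C] [Algebra.Etale V C]
  (L : Type u) [Field L] [Algebra C L] [IsFractionRing C L] [Algebra K L] [Algebra V L] [IsScalarTower V C L]
  [IsScalarTower V K L]

/-- Automorphisms permute the maximal ideals. -/
def actX (g : C ≃ₐ[V] C) (x : MaximalSpectrum C) : MaximalSpectrum C :=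
  ⟨x.asIdeal.comap (g.symm : C →+* C), by
    haveI := x.isMaximal
    exact Ideal.comap_isMaximal_of_surjective _ g.symm.surjective⟩

theorem mem_actX (g : C ≃ₐ[V] C) (x : MaximalSpectrum C) (a : C) : a ∈ (actX g x).asIdeal ↔ g.symm a ∈ x.asIdeal :=
  Iff.rfl

theorem actX_mul (g h : C ≃ₐ[V] C) (x : MaximalSpectrum C) : actX (g * h) x = actX g (actX h x) :=
  MaximalSpectrum.ext (Ideal.ext fun a => Iff.rfl)

theorem actX_one (x : MaximalSpectrum C) : actX (1 : C ≃ₐ[V] C) x = x :=
  MaximalSpectrum.ext (Ideal.ext fun a => Iff.rfl)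

variable {L}

variable (L) in
/-- Automorphisms of the fraction field. -/
def actL (g : C ≃ₐ[V] C) : L ≃+* L := IsFractionRing.ringEquivOfRingEquiv g.toRingEquiv

theorem actL_algebraMap (g : C ≃ₐ[V] C) (a : C) : actL L g (algebraMap C L a) = algebraMap C L (g a) :=
  IsFractionRing.ringEquivOfRingEquiv_algebraMap _ _

theorem actL_mul (g h : C ≃ₐ[V] C) (u : L) : actL L (g * h) u = actL L g (actL L h u) := by
  obtain ⟨a, b, -, rfl⟩ := IsFractionRing.div_surjective (A := C) u
  simp only [map_div₀, actL_algebraMap]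
  rfl

theorem actL_one (u : L) : actL L (1 : C ≃ₐ[V] C) u = u := by
  obtain ⟨a, b, -, rfl⟩ := IsFractionRing.div_surjective (A := C) u
  simp only [map_div₀, actL_algebraMap]
  rfl

theorem actL_base (g : C ≃ₐ[V] C) (c : K) : actL L g (algebraMap K L c) = algebraMap K L c := by
  obtain ⟨a, b, -, rfl⟩ := IsFractionRing.div_surjective (A := V) c
  simp only [map_div₀, ← IsScalarTower.algebraMap_apply]
  rw [IsScalarTower.algebraMap_apply V C L a, IsScalarTower.algebraMap_apply V C L b, actL_algebraMap, actL_algebraMap,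
    g.commutes, g.commutes]

variable (L) in
/-- Automorphisms on units. -/
def actU (g : C ≃ₐ[V] C) : Additive Lˣ →+ Additive Lˣ :=
  MonoidHom.toAdditive (Units.map (actL L g).toRingHom.toMonoidHom)

theorem actU_mul (g h : C ≃ₐ[V] C) (u : Additive Lˣ) : actU L (g * h) u = actU L g (actU L h u) :=
  Additive.toMul.injective (Units.ext (actL_mul g h _))

theorem actU_one (u : Additive Lˣ) : actU L (1 : C ≃ₐ[V] C) u = u :=
  Additive.toMul.injective (Units.ext (actL_one _))

/-- Two automorphisms which agree modulo a maximal ideal are equal. -/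
theorem eq_of_agree (x : MaximalSpectrum C) {g h : C ≃ₐ[V] C} (hgh : ∀ a, g a - h a ∈ x.asIdeal) : g = h := by
  let e : C ⊗[V] C := Algebra.FormallyUnramified.elem V C
  let μ₂ : C ⊗[V] C →ₐ[V] C := Algebra.TensorProduct.lift (g : C →ₐ[V] C) (h : C →ₐ[V] C) fun _ _ => Commute.all _ _
  haveI := x.isMaximal
  have h1 : ∀ z : C ⊗[V] C, μ₂ z - g (Algebra.TensorProduct.lmul' V z) ∈ x.asIdeal := fun z => by
    induction z using TensorProduct.induction_on with
    | zero => simp
    | tmul a b =>
      simp only [μ₂, Algebra.TensorProduct.lift_tmul, Algebra.TensorProduct.lmul'_apply_tmul, map_mul, AlgEquiv.coe_algHom]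
      rw [← mul_sub]
      exact x.asIdeal.mul_mem_left _ (by rw [← neg_sub]; exact x.asIdeal.neg_mem (hgh b))
    | add z w hz hw => rw [map_add, map_add, map_add, add_sub_add_comm]; exact add_mem hz hw
  have h2 := h1 e
  rw [Algebra.FormallyUnramified.lmul_elem, map_one] at h2
  refine AlgEquiv.ext fun a => ?_
  have h3 := congrArg μ₂ (Algebra.FormallyUnramified.one_tmul_sub_tmul_one_mul_elem (R := V) a)
  simp only [map_mul, map_sub, μ₂, Algebra.TensorProduct.lift_tmul, map_one, _root_.one_mul, mul_one, map_zero,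
    AlgEquiv.coe_algHom] at h3
  rcases mul_eq_zero.1 h3 with h4 | h4
  · exact (sub_eq_zero.1 h4).symm
  · exfalso
    change μ₂ e = 0 at h4
    rw [h4, zero_sub] at h2
    exact x.isMaximal.ne_top ((Ideal.eq_top_iff_one _).2 (neg_neg (1 : C) ▸ x.asIdeal.neg_mem h2))

variable [Finite (C ≃ₐ[V] C)] [Finite (MaximalSpectrum C)]

/-- An element whose values are invariant under a group of automorphisms can be replaced by an invariant one. -/
theorem exists_invariant (D : Subgroup (C ≃ₐ[V] C)) (p : Additive Lˣ)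
    (hp : ∀ g ∈ D, ∃ a : Cˣ, algebraMap C L a = ((actU L g p - p).toMul : Lˣ)) :
    ∃ q : Additive Lˣ, (∀ g ∈ D, actU L g q = q) ∧ ∃ a : Cˣ, algebraMap C L a = ((q - p).toMul : Lˣ) := by
  classical
  letI : Fintype D := Fintype.ofFinite D
  letI : Fintype (MaximalSpectrum C) := Fintype.ofFinite _
  have hu : ∀ g : D, ∃ a : Cˣ, algebraMap C L a = ((actU L g.1 p - p).toMul : Lˣ) := fun g => hp g.1 g.2
  choose a ha using hu
  let S : Setoid (MaximalSpectrum C) :=
    { r := fun x y => ∃ g ∈ D, actX g x = y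
      iseqv := ⟨fun x => ⟨1, one_mem D, actX_one x⟩,
        fun {x y} ⟨g, hg, e⟩ => ⟨g⁻¹, inv_mem hg, by rw [← e, ← actX_mul, inv_mul_cancel, actX_one]⟩,
        fun {x y z} ⟨g, hg, e⟩ ⟨g', hg', e'⟩ => ⟨g' * g, mul_mem hg' hg, by rw [actX_mul, e, e']⟩⟩ }
  have hex : ∀ O : Quotient S, ∃ r : C, ∑ g : D, g.1 r * (a g : C) ∉ O.out.asIdeal := fun O => by
    by_contra! hne
    haveI := O.out.isMaximal
    letI : Field (C ⧸ O.out.asIdeal) := Ideal.Quotient.field _
    let φ : D → (C →* C ⧸ O.out.asIdeal) := fun g =>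
      (Ideal.Quotient.mk O.out.asIdeal).toMonoidHom.comp (g.1 : C →+* C).toMonoidHom
    have hφ : Function.Injective φ := fun g g' h => Subtype.ext (eq_of_agree O.out fun c =>
      (Ideal.Quotient.eq).1 (DFunLike.congr_fun h c))
    have hli := (linearIndependent_monoidHom C (C ⧸ O.out.asIdeal)).comp φ hφ
    have := Fintype.linearIndependent_iff.1 hli (fun g => Ideal.Quotient.mk O.out.asIdeal (a g)) (funext fun c => by
      have h := Ideal.Quotient.eq_zero_iff_mem.2 (hne c)
      simp only [map_sum, map_mul] at h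
      simp only [Finset.sum_apply, Pi.smul_apply, Function.comp_apply, smul_eq_mul, Pi.zero_apply]
      refine Eq.trans (Finset.sum_congr rfl fun g _ => ?_) h
      rw [mul_comm]
      rfl) ⟨1, one_mem D⟩
    exact O.out.isMaximal.ne_top (Ideal.eq_top_of_isUnit_mem _ (Ideal.Quotient.eq_zero_iff_mem.1 this) (a _).isUnit)
  choose r hr using hex
  obtain ⟨R, hR⟩ := Ideal.exists_forall_sub_mem_ideal (I := fun x : MaximalSpectrum C => x.asIdeal)
    (fun x y hxy => Ideal.isCoprime_iff_sup_eq.2 (x.isMaximal.coprime_of_ne y.isMaximal fun h => hxy (MaximalSpectrum.ext h)))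
    (fun x => r (Quotient.mk S x))
  let F : C := ∑ g : D, g.1 R * (a g : C)
  have hFL : algebraMap C L F * ((p.toMul : Lˣ) : L) = ∑ g : D, actL L g.1 (algebraMap C L R * ((p.toMul : Lˣ) : L)) := by
    rw [map_sum, Finset.sum_mul]
    refine Finset.sum_congr rfl fun g _ => ?_
    rw [map_mul, ha g, map_mul, actL_algebraMap, mul_assoc]
    congr 1
    show ((actU L g.1 p).toMul / p.toMul : Lˣ).val * _ = _
    rw [Units.val_div_eq_div_val, div_mul_cancel₀ _ (Units.ne_zero _)]
    rfl
  have hinv : ∀ h : D, actL L h.1 (algebraMap C L F * ((p.toMul : Lˣ) : L)) = algebraMap C L F * ((p.toMul : Lˣ) : L) :=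
    fun h => by
      rw [hFL, map_sum]
      refine Fintype.sum_equiv (Equiv.mulLeft h) _ _ fun g => ?_
      rw [← actL_mul]
      rfl
  have hFout : ∀ O : Quotient S, F ∉ O.out.asIdeal := fun O hF => by
    refine hr O ?_
    have : ∀ g : D, g.1 (r O) * (a g : C) - g.1 R * (a g : C) ∈ O.out.asIdeal := fun g => by
      rw [← sub_mul, ← map_sub]
      refine O.out.asIdeal.mul_mem_right _ ?_
      have h := hR (actX (g.1)⁻¹ O.out)
      rw [show Quotient.mk S (actX (g.1)⁻¹ O.out) = O from (Quotient.sound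
        (show S.r (actX (g.1)⁻¹ O.out) O.out from ⟨g.1, g.2, by rw [← actX_mul, mul_inv_cancel, actX_one]⟩)).trans
          (Quotient.out_eq O)] at h
      have h' := (actX (g.1)⁻¹ O.out).asIdeal.neg_mem h
      rw [neg_sub, mem_actX] at h'
      exact h'
    have h' := O.out.asIdeal.add_mem hF (O.out.asIdeal.sum_mem (t := Finset.univ) fun g _ => this g)
    rwa [Finset.sum_sub_distrib, add_sub_cancel] at h'
  have hFu : IsUnit F := by
    by_contra hF
    obtain ⟨m, hm, hFm⟩ := exists_max_ideal_of_mem_nonunits hF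
    let x : MaximalSpectrum C := ⟨m, hm⟩
    let O := Quotient.mk S x
    obtain ⟨g, hg, e⟩ : ∃ g ∈ D, actX g O.out = x := Quotient.exact (Quotient.out_eq O)
    have h1 := hinv ⟨g, hg⟩
    rw [map_mul, actL_algebraMap] at h1
    have hag := ha ⟨g, hg⟩
    have h2 : algebraMap C L (g F) * algebraMap C L (a ⟨g, hg⟩) = algebraMap C L F := by
      rw [hag]
      show algebraMap C L (g F) * ((actU L g p).toMul / p.toMul : Lˣ).val = _
      rw [Units.val_div_eq_div_val, mul_div_assoc', div_eq_iff (Units.ne_zero _)]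
      exact h1
    rw [← map_mul] at h2
    have h3 : g F ∈ x.asIdeal := ((x.isMaximal.isPrime.mem_or_mem
      ((IsFractionRing.injective C L h2).symm ▸ hFm)).resolve_right
      fun hu => x.isMaximal.ne_top (Ideal.eq_top_of_isUnit_mem _ hu (a _).isUnit))
    rw [← e, mem_actX, AlgEquiv.symm_apply_apply] at h3
    exact hFout O h3
  let Fu : Lˣ := (hFu.map (algebraMap C L)).unit
  refine ⟨Additive.ofMul Fu + p, fun g hg => Additive.toMul.injective (Units.ext (hinv ⟨g, hg⟩)), hFu.unit, ?_⟩
  rw [add_sub_cancel_right]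
  rfl

variable [UniqueFactorizationMonoid C]


/-- A representative of a class. -/
def rp (q : Associates C) : C := Quot.out q

theorem mk_rp (q : Associates C) : Associates.mk (rp q) = q := Quot.out_eq q

variable (C L) in
/-- The units of the fraction field which come from integral units. -/
def intU : AddSubgroup (Additive Lˣ) := (MonoidHom.toAdditive (Units.map (algebraMap C L).toMonoidHom)).range

theorem mem_intU {l : Additive Lˣ} : l ∈ intU C L ↔ ∃ a : Cˣ, algebraMap C L a = (l.toMul : L) :=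
  ⟨fun ⟨a, ha⟩ => ⟨a.toMul, congrArg (fun z => ((Additive.toMul z : Lˣ) : L)) ha⟩,
    fun ⟨a, ha⟩ => ⟨Additive.ofMul a, Additive.toMul.injective (Units.ext ha)⟩⟩

theorem actU_mem_intU (g : C ≃ₐ[V] C) {l : Additive Lˣ} (h : l ∈ intU C L) : actU L g l ∈ intU C L := by
  obtain ⟨a, ha⟩ := mem_intU.1 h
  refine mem_intU.2 ⟨Units.map (g : C →* C) a, ?_⟩
  show algebraMap C L (g a) = actL L g (l.toMul : L)
  rw [← ha, actL_algebraMap]

variable (L)

/-- The unit of the fraction field of a prime class. -/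
def primeU (q : Associates C) : Additive Lˣ :=
  open Classical in
  if h : algebraMap C L (rp q) = 0 then 0 else Additive.ofMul (Units.mk0 _ h)

theorem primeU_val {q : Associates C} (hq : Prime (rp q)) : ((primeU L q).toMul : L) = algebraMap C L (rp q) := by
  rw [primeU, dif_neg fun h => hq.ne_zero (IsFractionRing.injective C L (h.trans (map_zero _).symm))]
  rfl

/-- Prime powers of different classes are independent modulo units. -/
theorem eq_zero_of_sum_mem (Q : Finset (Associates C)) (hQ : ∀ q ∈ Q, Prime (rp q)) (k : Associates C → ℤ)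
    (h : ∑ q ∈ Q, k q • primeU L q ∈ intU C L) : ∀ q ∈ Q, k q = 0 := by
  classical
  obtain ⟨a, ha⟩ := mem_intU.1 h
  have key : (a : C) * ∏ q ∈ Q, (rp q) ^ (-k q).toNat = ∏ q ∈ Q, (rp q) ^ (k q).toNat := by
    apply IsFractionRing.injective C L
    rw [map_mul, map_prod, map_prod, ha, toMul_sum, Units.coe_prod, ← Finset.prod_mul_distrib]
    refine Finset.prod_congr rfl fun q hq => ?_
    rw [map_pow, map_pow, toMul_zsmul, Units.val_zpow_eq_zpow_val, primeU_val L (hQ q hq), ← zpow_natCast,
      ← zpow_natCast, ← zpow_add₀ fun h0 => (hQ q hq).ne_zero (IsFractionRing.injective C L (h0.trans (map_zero _).symm))]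
    congr 1
    omega
  intro q hq
  have hne : ∀ r ∈ Q, (rp q) ∣ (rp r) → r = q := fun r hr hd => by
    rw [← mk_rp q, ← mk_rp r]
    exact Associates.mk_eq_mk_iff_associated.2 ((hQ q hq).associated_of_dvd (hQ r hr) hd).symm
  have hpow : ∀ e : Associates C → ℕ, (rp q) ∣ ∏ r ∈ Q, (rp r) ^ e r → e q ≠ 0 := fun e hd => by
    obtain ⟨r, hr, hd⟩ := (Prime.dvd_finsetProd_iff (hQ q hq) _).1 hd
    have hd' := (hQ q hq).dvd_of_dvd_pow hd
    rw [hne r hr hd'] at hd
    intro h0
    rw [h0, pow_zero] at hd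
    exact (hQ q hq).not_isUnit (isUnit_of_dvd_one hd)
  have hself : ∀ e : Associates C → ℕ, e q ≠ 0 → (rp q) ∣ ∏ r ∈ Q, (rp r) ^ e r := fun e he =>
    (dvd_pow_self _ he).trans (Finset.dvd_prod_of_mem (fun r => (rp r) ^ e r) hq)
  rcases lt_trichotomy (k q) 0 with hk | hk | hk
  · have h1 := hpow (fun r => (k r).toNat) (key ▸ dvd_mul_of_dvd_right (hself (fun r => (-k r).toNat) (by omega)) (a : C))
    omega
  · exact hk
  · have h1 : (rp q) ∣ (a : C) * ∏ r ∈ Q, (rp r) ^ (-k r).toNat := key ▸ hself (fun r => (k r).toNat) (by omega)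
    have h2 := hpow (fun r => (-k r).toNat) ((IsUnit.dvd_mul_left a.isUnit).1 h1)
    omega

omit [Finite (C ≃ₐ[V] C)] in
theorem exists_prime_factors (w : Lˣ) : ∃ S : Finset (Associates C), (∀ q ∈ S, Prime (rp q)) ∧
    Additive.ofMul w ∈ intU C L ⊔ AddSubgroup.closure (Set.range fun q : S => primeU L q.1) := by
  classical
  have key : ∀ b : C, b ≠ 0 → ∃ S : Finset (Associates C), (∀ q ∈ S, Prime (rp q)) ∧ ∀ u : Lˣ, (u : L) = algebraMap C L b →
      Additive.ofMul u ∈ intU C L ⊔ AddSubgroup.closure (Set.range fun q : S => primeU L q.1) := by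
    intro b hb
    induction b using UniqueFactorizationMonoid.induction_on_prime with
    | h₁ => exact absurd rfl hb
    | h₂ x hx =>
      exact ⟨∅, by simp, fun u hu => AddSubgroup.mem_sup_left (mem_intU.2 ⟨hx.unit, hu.symm⟩)⟩
    | h₃ x p hx hp ih =>
      obtain ⟨S, hS, hS'⟩ := ih hx
      obtain ⟨c, hc⟩ : Associated (rp (Associates.mk p)) p :=
        Associates.mk_eq_mk_iff_associated.1 (mk_rp _)
      have hp' : Prime (rp (Associates.mk p)) := (Associates.mk_eq_mk_iff_associated.1 (mk_rp (Associates.mk p))).symm.prime hp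
      refine ⟨insert (Associates.mk p) S, fun q hq => ?_, fun u hu => ?_⟩
      · rcases Finset.mem_insert.1 hq with rfl | hq
        · exact hp'
        · exact hS q hq
      · have hx0 : algebraMap C L x ≠ 0 := fun h0 => hx (IsFractionRing.injective C L (h0.trans (map_zero _).symm))
        have e : Additive.ofMul u = Additive.ofMul (Units.map (algebraMap C L).toMonoidHom c) +
            primeU L (Associates.mk p) + Additive.ofMul (Units.mk0 _ hx0) := by
          refine Additive.toMul.injective (Units.ext ?_)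
          show (u : L) = algebraMap C L c * ((primeU L (Associates.mk p)).toMul : L) * algebraMap C L x
          rw [primeU_val L hp', hu, ← map_mul, ← map_mul, mul_comm (c : C), hc]
        rw [e]
        refine add_mem (add_mem (AddSubgroup.mem_sup_left ⟨Additive.ofMul c, rfl⟩) (AddSubgroup.mem_sup_right
          (AddSubgroup.subset_closure ⟨⟨_, Finset.mem_insert_self _ _⟩, rfl⟩))) ?_
        exact sup_le_sup_left (AddSubgroup.closure_mono (by
          rintro _ ⟨⟨q, hq⟩, rfl⟩
          exact ⟨⟨q, Finset.mem_insert_of_mem hq⟩, rfl⟩)) _ (hS' (Units.mk0 _ hx0) rfl)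
  obtain ⟨a, b, hb, hab⟩ := IsFractionRing.div_surjective (A := C) (w : L)
  have hb0 : b ≠ 0 := nonZeroDivisors.ne_zero hb
  have hbL : algebraMap C L b ≠ 0 := fun h0 => hb0 (IsFractionRing.injective C L (h0.trans (map_zero _).symm))
  have haL : algebraMap C L a ≠ 0 := fun h0 => w.ne_zero (by rw [← hab, h0, zero_div])
  obtain ⟨S₁, hS₁, h₁⟩ := key a fun h0 => haL (by rw [h0, map_zero])
  obtain ⟨S₂, hS₂, h₂⟩ := key b hb0
  refine ⟨S₁ ∪ S₂, fun q hq => (Finset.mem_union.1 hq).elim (hS₁ q) (hS₂ q), ?_⟩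
  rw [show Additive.ofMul w = Additive.ofMul (Units.mk0 _ haL) - Additive.ofMul (Units.mk0 _ hbL) from
    Additive.toMul.injective (Units.ext (by
      show (w : L) = ((Units.mk0 _ haL / Units.mk0 _ hbL : Lˣ) : L)
      rw [Units.val_div_eq_div_val, ← hab]; rfl))]
  refine sub_mem (sup_le_sup_left (AddSubgroup.closure_mono ?_) _ (h₁ _ rfl))
    (sup_le_sup_left (AddSubgroup.closure_mono ?_) _ (h₂ _ rfl)) <;> rintro _ ⟨⟨q, hq⟩, rfl⟩
  · exact ⟨⟨q, Finset.mem_union_left _ hq⟩, rfl⟩
  · exact ⟨⟨q, Finset.mem_union_right _ hq⟩, rfl⟩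

variable {Λ : Type} [AddCommGroup Λ] [Module.Finite ℤ Λ] (ρ : (C ≃ₐ[V] C) → Λ →+ Λ)

/-- Classes modulo integral units which are equivariant come from equivariant units. -/
theorem exists_lift (w : Λ → Additive Lˣ) (hadd : ∀ a b, w (a + b) - w a - w b ∈ intU C L)
    (heq : ∀ g a, actU L g (w a) - w (ρ g a) ∈ intU C L) :
    ∃ t : Λ →+ Additive Lˣ, (∀ g a, actU L g (t a) = t (ρ g a)) ∧ ∀ a, w a - t a ∈ intU C L := by
  classical
  letI := Fintype.ofFinite (C ≃ₐ[V] C)
  obtain ⟨N, gen, hgen⟩ := Module.Finite.exists_fin (R := ℤ) (M := Λ)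
  choose S hS hmem using fun i : Fin N => exists_prime_factors (C := C) L (w (gen i)).toMul
  let U := intU C L
  let aQ : (C ≃ₐ[V] C) → Associates C → Associates C := fun g q => Associates.mk (g (rp q))
  have aQ_mul : ∀ g h q, aQ (g * h) q = aQ g (aQ h q) := fun g h q =>
    Associates.mk_eq_mk_iff_associated.2 (((Associates.mk_eq_mk_iff_associated.1 (mk_rp (aQ h q))).map (g : C →* C)).symm)
  have aQ_one : ∀ q, aQ 1 q = q := fun q => mk_rp q
  have aQ_prime : ∀ g q, Prime (rp q) → Prime (rp (aQ g q)) := fun g q hq =>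
    (Associates.mk_eq_mk_iff_associated.1 (mk_rp (aQ g q))).symm.prime ((MulEquiv.prime_iff g.toMulEquiv).2 hq)
  let Q : Finset (Associates C) := (Finset.univ ×ˢ Finset.univ.biUnion S).image fun gq => aQ gq.1 gq.2
  have hQp : ∀ q ∈ Q, Prime (rp q) := fun q hq => by
    obtain ⟨⟨g, r⟩, hgr, rfl⟩ := Finset.mem_image.1 hq
    obtain ⟨i, -, hi⟩ := Finset.mem_biUnion.1 (Finset.mem_product.1 hgr).2
    exact aQ_prime g r (hS i r hi)
  have hQs : ∀ i, S i ⊆ Q := fun i q hq => Finset.mem_image.2 ⟨(1, q),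
    Finset.mem_product.2 ⟨Finset.mem_univ _, Finset.mem_biUnion.2 ⟨i, Finset.mem_univ _, hq⟩⟩, aQ_one q⟩
  have hQg : ∀ g, ∀ q ∈ Q, aQ g q ∈ Q := fun g q hq => by
    obtain ⟨⟨h, r⟩, hr, rfl⟩ := Finset.mem_image.1 hq
    exact Finset.mem_image.2 ⟨(g * h, r), Finset.mem_product.2 ⟨Finset.mem_univ _, (Finset.mem_product.1 hr).2⟩, aQ_mul g h r⟩
  have hpu : ∀ g q, Prime (rp q) → actU L g (primeU L q) - primeU L (aQ g q) ∈ U := fun g q hq => by
    obtain ⟨c, hc⟩ := Associates.mk_eq_mk_iff_associated.1 (mk_rp (aQ g q))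
    refine mem_intU.2 ⟨c, ?_⟩
    show algebraMap C L c = (((actU L g (primeU L q)).toMul / (primeU L (aQ g q)).toMul : Lˣ) : L)
    rw [Units.val_div_eq_div_val, primeU_val L (aQ_prime g q hq), eq_div_iff fun h0 =>
      (aQ_prime g q hq).ne_zero (IsFractionRing.injective C L (h0.trans (map_zero _).symm))]
    show _ = actL L g ((primeU L q).toMul : L)
    rw [primeU_val L hq, actL_algebraMap, ← map_mul, mul_comm, hc]
  let orb : Setoid Q :=
    { r := fun c c' => ∃ g, aQ g c.1 = c'.1
      iseqv := ⟨fun c => ⟨1, aQ_one c.1⟩, fun {c c'} ⟨g, e⟩ => ⟨g⁻¹, by rw [← e, ← aQ_mul, inv_mul_cancel, aQ_one]⟩,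
        fun {c c' c''} ⟨g, e⟩ ⟨g', e'⟩ => ⟨g' * g, by rw [aQ_mul, e, e']⟩⟩ }
  let ac : (C ≃ₐ[V] C) → Q → Q := fun g c => ⟨aQ g c.1, hQg g c.1 c.2⟩
  have ac_mul : ∀ g h c, ac (g * h) c = ac g (ac h c) := fun g h c => Subtype.ext (aQ_mul g h c.1)
  have ac_one : ∀ c, ac 1 c = c := fun c => Subtype.ext (aQ_one c.1)
  let rep : Q → Q := fun c => (Quotient.mk orb c).out
  have hrep : ∀ g c, rep (ac g c) = rep c := fun g c =>
    congrArg Quotient.out (Quotient.sound (show orb.r c (ac g c) from ⟨g, rfl⟩)).symm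
  have htr : ∀ c, ∃ g, ac g (rep c) = c := fun c => by
    obtain ⟨g, hg⟩ := (Quotient.exact (Quotient.out_eq (Quotient.mk orb c)) : orb.r (rep c) c)
    exact ⟨g, Subtype.ext hg⟩
  choose tr htr using htr
  let D : Q → Subgroup (C ≃ₐ[V] C) := fun c =>
    { carrier := {g | ac g c = c}
      one_mem' := ac_one c
      mul_mem' := fun {g h} hg hh => by
        show ac (g * h) c = c
        rw [ac_mul, hh, hg]
      inv_mem' := fun {g} hg => by
        show ac g⁻¹ c = c
        conv_lhs => rw [← hg, ← ac_mul, inv_mul_cancel, ac_one] }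
  have hq : ∀ c : Q, ∃ z : Additive Lˣ, (∀ g ∈ D c, actU L g z = z) ∧ z - primeU L c.1 ∈ U := fun c => by
    obtain ⟨z, hz, hz'⟩ := exists_invariant (D c) (primeU L c.1) fun g hg => by
      have h := hpu g c.1 (hQp c.1 c.2)
      rw [show aQ g c.1 = c.1 from congrArg Subtype.val hg] at h
      exact mem_intU.1 h
    exact ⟨z, hz, mem_intU.2 hz'⟩
  choose z hz1 hz2 using hq
  let π : Q → Additive Lˣ := fun c => actU L (tr c) (z (rep c))
  have hπ : ∀ g c, actU L g (π c) = π (ac g c) := fun g c => by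
    have hmem' : (tr (ac g c))⁻¹ * (g * tr c) ∈ D (rep c) := by
      show ac _ (rep c) = rep c
      rw [ac_mul, ac_mul, htr c]
      have h := congrArg (ac (tr (ac g c))⁻¹) (htr (ac g c))
      rw [← ac_mul, inv_mul_cancel, ac_one, hrep] at h
      exact h.symm
    have := congrArg (actU L (tr (ac g c))) (hz1 (rep c) _ hmem')
    rw [← actU_mul, mul_inv_cancel_left, actU_mul] at this
    show actU L g (actU L (tr c) _) = actU L (tr (ac g c)) (z (rep (ac g c)))
    rw [hrep g c]
    exact this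
  have hπU : ∀ c, π c - primeU L c.1 ∈ U := fun c => by
    have h1 : actU L (tr c) (z (rep c) - primeU L (rep c).1) ∈ U := actU_mem_intU (tr c) (hz2 (rep c))
    have h2 := hpu (tr c) (rep c).1 (hQp _ (rep c).2)
    rw [show aQ (tr c) (rep c).1 = c.1 from congrArg Subtype.val (htr c)] at h2
    have h3 := add_mem h1 h2
    rwa [map_sub, sub_add_sub_cancel] at h3
  let Ψ : (Q → ℤ) →+ Additive Lˣ := AddMonoidHom.mk' (fun k => ∑ c, k c • π c) fun k k' => by
    simp only [Pi.add_apply, add_zsmul, Finset.sum_add_distrib]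
  have hinj : ∀ k, Ψ k ∈ U → k = 0 := fun k hk => by
    let k' : Associates C → ℤ := fun q => if h : q ∈ Q then k ⟨q, h⟩ else 0
    have h1 : ∑ c : Q, k c • primeU L c.1 ∈ U := by
      have e : ∑ c : Q, k c • primeU L c.1 = Ψ k - ∑ c : Q, k c • (π c - primeU L c.1) := by
        simp only [zsmul_sub, Finset.sum_sub_distrib]
        exact (sub_sub_cancel _ _).symm
      rw [e]
      exact sub_mem hk (sum_mem fun c _ => zsmul_mem (hπU c) _)
    have h2 := eq_zero_of_sum_mem L Q hQp k' (by
      rw [← Finset.sum_coe_sort]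
      refine (show ∑ c : Q, k' c.1 • primeU L c.1 = ∑ c : Q, k c • primeU L c.1 from ?_) ▸ h1
      exact Finset.sum_congr rfl fun c _ => by simp [k', c.2])
    funext c
    simpa [k', c.2] using h2 c.1 c.2
  let R := U ⊔ Ψ.range
  let T : AddSubgroup Λ :=
    { carrier := {a | w a ∈ R}
      zero_mem' := by
        have h := hadd 0 0
        rw [add_zero, sub_self, zero_sub, neg_mem_iff] at h
        exact AddSubgroup.mem_sup_left h
      add_mem' := fun {a b} ha hb => by
        have h := add_mem (add_mem (AddSubgroup.mem_sup_left (hadd a b) : _ ∈ R) hb) ha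
        simpa using h
      neg_mem' := fun {a} ha => by
        have h := hadd a (-a)
        have h0 := hadd 0 0
        rw [add_zero, sub_self, zero_sub, neg_mem_iff] at h0
        rw [add_neg_cancel] at h
        have := sub_mem (sub_mem (AddSubgroup.mem_sup_left h0 : _ ∈ R) ha) (AddSubgroup.mem_sup_left h)
        simpa using this }
  have hT : ∀ a, w a ∈ R := fun a => by
    have hgi : ∀ i, gen i ∈ T := fun i => by
      refine (sup_le le_sup_left ((AddSubgroup.closure_le _).2 ?_) : _ ≤ R) (hmem i)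
      rintro _ ⟨⟨q, hq⟩, rfl⟩
      let c : Q := ⟨q, hQs i hq⟩
      have e : Ψ (Pi.single c 1) = π c := by
        show ∑ d, (Pi.single c 1 : Q → ℤ) d • π d = π c
        rw [Finset.sum_eq_single c (fun d _ hd => by simp [hd]) (by simp), Pi.single_eq_same, one_smul]
      show primeU L q ∈ R
      rw [show primeU L q = -(π c - primeU L c.1) + π c by abel]
      exact add_mem (AddSubgroup.mem_sup_left (neg_mem (hπU c))) (AddSubgroup.mem_sup_right ⟨_, e⟩)
    have h : (⊤ : Submodule ℤ Λ) ≤ AddSubgroup.toIntSubmodule T := by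
      rw [← hgen, Submodule.span_le]
      rintro _ ⟨i, rfl⟩
      exact hgi i
    exact h (Submodule.mem_top : a ∈ ⊤)
  have hk : ∀ a, ∃ k, w a - Ψ k ∈ U := fun a => by
    obtain ⟨u, hu, v, ⟨k, rfl⟩, e⟩ := AddSubgroup.mem_sup.1 (hT a)
    exact ⟨k, by rw [← e, add_sub_cancel_right]; exact hu⟩
  choose k hk using hk
  have uniq : ∀ a k', w a - Ψ k' ∈ U → k a = k' := fun a k' h =>
    sub_eq_zero.1 (hinj _ (by
      rw [map_sub]
      simpa using sub_mem h (hk a)))
  let K' : Λ →+ (Q → ℤ) := AddMonoidHom.mk' k fun a b => uniq _ _ (by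
    have h := add_mem (add_mem (hadd a b) (hk a)) (hk b)
    rw [map_add]
    convert h using 1
    abel)
  refine ⟨Ψ.comp K', fun g a => ?_, hk⟩
  have hcomp : ∀ c, k (ρ g a) (ac g c) = k a c := fun c => by
    have h : k (ρ g a) = fun d => k a (ac g⁻¹ d) := uniq _ _ (by
      have e : actU L g (Ψ (k a)) = Ψ fun d => k a (ac g⁻¹ d) := by
        show actU L g (∑ c, k a c • π c) = ∑ d, k a (ac g⁻¹ d) • π d
        rw [map_sum]
        refine Fintype.sum_bijective (ac g) (Function.bijective_iff_has_inverse.2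
          ⟨ac g⁻¹, fun c => by rw [← ac_mul, inv_mul_cancel, ac_one], fun c => by rw [← ac_mul, mul_inv_cancel, ac_one]⟩)
          _ _ fun c => ?_
        rw [map_zsmul, hπ, ← ac_mul, inv_mul_cancel, ac_one]
      rw [← e]
      have h2 := sub_mem (actU_mem_intU g (hk a)) (heq g a)
      rw [map_sub] at h2
      convert h2 using 1
      abel)
    rw [h]
    show k a (ac g⁻¹ (ac g c)) = _
    rw [← ac_mul, inv_mul_cancel, ac_one]
  show actU L g (∑ c, k a c • π c) = ∑ c, k (ρ g a) c • π c
  rw [map_sum]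
  refine Fintype.sum_bijective (ac g) (Function.bijective_iff_has_inverse.2
    ⟨ac g⁻¹, fun c => by rw [← ac_mul, inv_mul_cancel, ac_one], fun c => by rw [← ac_mul, mul_inv_cancel, ac_one]⟩)
    _ _ fun c => ?_
  rw [map_zsmul, hπ, hcomp]

end Groth.Agent.ValTors.Reg
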