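import Groth.Agent.S1963
import Mathlib

/-!
# The valuations of a finite étale domain over a valuation ring, with values in the group of the base
-/

set_option autoImplicit false
set_option linter.style.haveILetI false

universe u

open scoped TensorProduct

noncomputable section

namespace Groth.Agent.ValTors

variable (V : Type u) [CommRing V] [IsDomain V] [ValuationRing V] (K : Type u) [Field K] [Algebra V K]
  [IsFractionRing V K]

/-- The value group of the base, written additively. -/
abbrev VG : Type u := Additive (ValuationRing.ValueGroup V K)ˣ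

/-- The value of a unit of the fraction field; integral elements have non-negative value. -/
def vK : Additive Kˣ →+ VG V K :=
  -(MonoidHom.toAdditive (Units.map (ValuationRing.valuation V K).toMonoidWithZeroHom.toMonoidHom))

variable {V K}

theorem vK_nonneg_iff (c : Kˣ) : 0 ≤ vK V K (Additive.ofMul c) ↔ ∃ a : V, algebraMap V K a = (c : K) := by
  rw [← ValuationRing.mem_integer_iff]
  show (1 : (ValuationRing.ValueGroup V K)ˣ) ≤ (Units.map _ c)⁻¹ ↔ _
  rw [one_le_inv']
  exact Iff.rfl

theorem vK_surjective : Function.Surjective (vK V K) := fun γ => by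
  obtain ⟨c, hc⟩ : ∃ c : K, ValuationRing.valuation V K c = ((-γ).toMul : (ValuationRing.ValueGroup V K)ˣ).val :=
    Quotient.exists_rep _
  have hc0 : c ≠ 0 := fun h => by
    rw [h, map_zero] at hc
    exact Units.ne_zero _ hc.symm
  refine ⟨Additive.ofMul (Units.mk0 c hc0), neg_injective ?_⟩
  rw [vK, AddMonoidHom.neg_apply, neg_neg]
  exact congrArg Additive.ofMul (Units.ext hc)

variable (C : Type u) [CommRing C] [IsDomain C] [Algebra V C] [Module.Finite V C] [Algebra.Etale V C]
  [FaithfulSMul V C]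
  (L : Type u) [Field L] [Algebra C L] [IsFractionRing C L] [Algebra K L] [Algebra V L] [IsScalarTower V C L]
  [IsScalarTower V K L]

variable {C L}

omit [IsDomain C] [Algebra.Etale V C] [FaithfulSMul V C] in
theorem comap_maximal (x : MaximalSpectrum C) :
    x.asIdeal.comap (algebraMap V C) = IsLocalRing.maximalIdeal V := by
  haveI := x.isMaximal
  exact IsLocalRing.eq_maximalIdeal (Ideal.isMaximal_comap_of_isIntegral_of_isMaximal x.asIdeal)

theorem exists_decomp_C (x : MaximalSpectrum C) {a : C} (ha : a ≠ 0) :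
    ∃ (c : V) (p q : C), c ≠ 0 ∧ p ∉ x.asIdeal ∧ q ∉ x.asIdeal ∧ a * q = algebraMap V C c * p := by
  haveI := x.isMaximal
  obtain ⟨hd, -, -, -, h⟩ := Groth.Agent.S1963.result V C x.asIdeal (comap_maximal x)
  have hle : x.asIdeal.primeCompl ≤ nonZeroDivisors C :=
    le_nonZeroDivisors_of_noZeroDivisors fun h0 => h0 x.asIdeal.zero_mem
  have hinj : Function.Injective (algebraMap C (Localization.AtPrime x.asIdeal)) := IsLocalization.injective _ hle
  obtain ⟨c, u, hu⟩ := h (algebraMap C _ a) fun h0 => ha (hinj (h0.trans (map_zero _).symm))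
  obtain ⟨⟨p, q⟩, hpq⟩ := IsLocalization.surj x.asIdeal.primeCompl (u : Localization.AtPrime x.asIdeal)
  have hp : p ∉ x.asIdeal := by
    intro hp
    have h1 : IsUnit (algebraMap C (Localization.AtPrime x.asIdeal) p) := hpq ▸ u.isUnit.mul (IsLocalization.map_units _ q)
    exact (IsLocalization.AtPrime.isUnit_to_map_iff _ x.asIdeal p).1 h1 hp
  refine ⟨c, p, q, fun hc => ha (hinj ?_), hp, q.2, hinj ?_⟩
  · rw [hu, hc, map_zero, mul_zero, map_zero]
  · rw [map_mul, map_mul, ← hpq, hu, ← IsScalarTower.algebraMap_apply]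
    ring

variable (V K)

include V in
theorem exists_decomp (x : MaximalSpectrum C) (u : Lˣ) :
    ∃ (c : Kˣ) (p q : C), p ∉ x.asIdeal ∧ q ∉ x.asIdeal ∧
      (u : L) * algebraMap C L q = algebraMap K L c * algebraMap C L p := by
  obtain ⟨a, b, hb, hab⟩ := IsFractionRing.div_surjective (A := C) (u : L)
  have hb0 : b ≠ 0 := nonZeroDivisors.ne_zero hb
  have hbL : algebraMap C L b ≠ 0 := fun h => hb0 (IsFractionRing.injective C L (h.trans (map_zero _).symm))
  have ha0 : a ≠ 0 := fun h => u.ne_zero (by rw [← hab, h, map_zero, zero_div])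
  obtain ⟨c₁, p₁, q₁, hc₁, hp₁, hq₁, h₁⟩ := exists_decomp_C (V := V) x ha0
  obtain ⟨c₂, p₂, q₂, hc₂, hp₂, hq₂, h₂⟩ := exists_decomp_C (V := V) x hb0
  haveI := x.isMaximal
  have hinj := IsFractionRing.injective V K
  refine ⟨Units.mk0 (algebraMap V K c₁ / algebraMap V K c₂) (div_ne_zero (fun h => hc₁ (hinj (h.trans (map_zero _).symm)))
    fun h => hc₂ (hinj (h.trans (map_zero _).symm))), p₁ * q₂, q₁ * p₂, ?_, ?_, ?_⟩
  · exact fun h => (x.isMaximal.isPrime.mem_or_mem h).elim hp₁ hq₂
  · exact fun h => (x.isMaximal.isPrime.mem_or_mem h).elim hq₁ hp₂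
  · have e₁ := congrArg (algebraMap C L) h₁
    have e₂ := congrArg (algebraMap C L) h₂
    simp only [map_mul, ← IsScalarTower.algebraMap_apply] at e₁ e₂
    have hc₂' : algebraMap V L c₂ ≠ 0 := by
      rw [IsScalarTower.algebraMap_apply V K L]
      exact (map_ne_zero _).2 fun h => hc₂ (hinj (h.trans (map_zero _).symm))
    rw [Units.val_mk0, map_div₀, ← IsScalarTower.algebraMap_apply, ← IsScalarTower.algebraMap_apply, ← hab,
      map_mul, map_mul, div_mul_eq_mul_div, div_mul_eq_mul_div, div_eq_div_iff hbL hc₂']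
    linear_combination algebraMap C L p₂ * algebraMap V L c₂ * e₁ - algebraMap C L p₁ * algebraMap V L c₁ * e₂

/-- The value at a maximal ideal. -/
def valFun (x : MaximalSpectrum C) (u : Lˣ) : VG V K := vK V K (Additive.ofMul (exists_decomp V K x u).choose)

variable {V K}

omit [IsFractionRing C L] [Module.Finite V C] [Algebra.Etale V C] in
theorem vK_eq_of_rel (x : MaximalSpectrum C) (hx : x.asIdeal.comap (algebraMap V C) = IsLocalRing.maximalIdeal V)
    (hCL : Function.Injective (algebraMap C L))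
    {c c' : Kˣ} {P Q : C} (hP : P ∉ x.asIdeal) (hQ : Q ∉ x.asIdeal)
    (h : algebraMap K L c * algebraMap C L P = algebraMap K L c' * algebraMap C L Q) :
    vK V K (Additive.ofMul c) = vK V K (Additive.ofMul c') := by
  have key : ∀ (c c' : Kˣ) (P Q : C), P ∉ x.asIdeal → Q ∉ x.asIdeal →
      algebraMap K L c * algebraMap C L P = algebraMap K L c' * algebraMap C L Q →
      vK V K (Additive.ofMul c) ≤ vK V K (Additive.ofMul c') := by
    intro c c' P Q hP hQ h
    rw [← sub_nonneg, ← map_sub, show Additive.ofMul c' - Additive.ofMul c = Additive.ofMul (c' / c) from rfl,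
      vK_nonneg_iff]
    by_contra hne
    have hlt : ∃ a : V, algebraMap V K a = ((c / c' : Kˣ) : K) := by
      rcases ValuationRing.isInteger_or_isInteger V ((c' / c : Kˣ) : K) with ⟨a, ha⟩ | ⟨a, ha⟩
      · exact absurd ⟨a, ha⟩ hne
      · exact ⟨a, ha.trans (by rw [← Units.val_inv_eq_inv_val, inv_div])⟩
    obtain ⟨a, ha⟩ := hlt
    have hau : ¬ IsUnit a := fun hu => hne ⟨↑hu.unit⁻¹, by
      rw [map_units_inv, IsUnit.unit_spec, ha, ← Units.val_inv_eq_inv_val, inv_div]⟩
    have hQ' : Q = algebraMap V C a * P := hCL (by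
      rw [map_mul, ← IsScalarTower.algebraMap_apply, IsScalarTower.algebraMap_apply V K L, ha,
        Units.val_div_eq_div_val, map_div₀, div_mul_eq_mul_div, h,
        mul_div_cancel_left₀ _ ((map_ne_zero _).2 c'.ne_zero)])
    refine hQ (hQ' ▸ x.asIdeal.mul_mem_right P ?_)
    show a ∈ x.asIdeal.comap (algebraMap V C)
    rw [hx]
    exact (IsLocalRing.mem_maximalIdeal a).2 hau
  exact le_antisymm (key c c' P Q hP hQ h) (key c' c Q P hQ hP h.symm)

theorem valFun_eq (x : MaximalSpectrum C) (u : Lˣ) (c : Kˣ) (p q : C) (hp : p ∉ x.asIdeal) (hq : q ∉ x.asIdeal)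
    (h : (u : L) * algebraMap C L q = algebraMap K L c * algebraMap C L p) :
    valFun V K x u = vK V K (Additive.ofMul c) := by
  obtain ⟨p', q', hp', hq', h'⟩ := (exists_decomp V K x u).choose_spec
  haveI := x.isMaximal
  refine vK_eq_of_rel (L := L) x (comap_maximal x) (IsFractionRing.injective C L) (P := p' * q) (Q := p * q') ?_ ?_ ?_
  · exact fun h => (x.isMaximal.isPrime.mem_or_mem h).elim hp' hq
  · exact fun h => (x.isMaximal.isPrime.mem_or_mem h).elim hp hq'
  · rw [map_mul, map_mul, ← mul_assoc, ← mul_assoc, ← h', ← h]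
    ring

variable (V K) in
/-- The value at a maximal ideal, as a homomorphism. -/
def val (x : MaximalSpectrum C) : Additive Lˣ →+ VG V K :=
  AddMonoidHom.mk' (fun u => valFun V K x u.toMul) fun u v => by
    obtain ⟨c, p, q, hp, hq, h⟩ := exists_decomp V K x u.toMul
    obtain ⟨c', p', q', hp', hq', h'⟩ := exists_decomp V K x v.toMul
    haveI := x.isMaximal
    rw [valFun_eq x u.toMul c p q hp hq h, valFun_eq x v.toMul c' p' q' hp' hq' h', ← map_add]
    refine valFun_eq x _ (c * c') (p * p') (q * q') (fun h => (x.isMaximal.isPrime.mem_or_mem h).elim hp hp')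
      (fun h => (x.isMaximal.isPrime.mem_or_mem h).elim hq hq') ?_
    simp only [toMul_add, Units.val_mul, map_mul]
    linear_combination (v.toMul : L) * algebraMap C L q' * h + algebraMap K L c * algebraMap C L p * h'

theorem val_eq (x : MaximalSpectrum C) (u : Lˣ) (c : Kˣ) (p q : C) (hp : p ∉ x.asIdeal) (hq : q ∉ x.asIdeal)
    (h : (u : L) * algebraMap C L q = algebraMap K L c * algebraMap C L p) :
    val V K x (Additive.ofMul u) = vK V K (Additive.ofMul c) :=
  valFun_eq x u c p q hp hq h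

theorem val_algebraMap (x : MaximalSpectrum C) (c : Kˣ) :
    val V (L := L) K x (Additive.ofMul (Units.map (algebraMap K L).toMonoidHom c)) = vK V K (Additive.ofMul c) := by
  haveI := x.isMaximal
  exact val_eq x _ c 1 1 ((Ideal.ne_top_iff_one _).1 x.isMaximal.ne_top)
    ((Ideal.ne_top_iff_one _).1 x.isMaximal.ne_top) rfl

theorem val_nonneg_iff (x : MaximalSpectrum C) (u : Lˣ) :
    0 ≤ val V K x (Additive.ofMul u) ↔ ∃ p q : C, q ∉ x.asIdeal ∧ (u : L) * algebraMap C L q = algebraMap C L p := by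
  haveI := x.isMaximal
  obtain ⟨c, p, q, hp, hq, h⟩ := exists_decomp V K x u
  rw [val_eq x u c p q hp hq h]
  constructor
  · intro hc
    obtain ⟨a, ha⟩ := (vK_nonneg_iff c).1 hc
    refine ⟨algebraMap V C a * p, q, hq, ?_⟩
    rw [h, map_mul, ← IsScalarTower.algebraMap_apply, ← ha, ← IsScalarTower.algebraMap_apply]
  · rintro ⟨p', q', hq', h'⟩
    by_cases hp' : p' = 0
    · exfalso
      rw [hp', map_zero, mul_eq_zero] at h'
      exact h'.elim u.ne_zero fun h0 => hq' (by
        rw [IsFractionRing.injective C L (h0.trans (map_zero _).symm)]; exact x.asIdeal.zero_mem)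
    · obtain ⟨a, p₁, q₁, ha, hp₁, hq₁, h₁⟩ := exists_decomp_C (V := V) x hp'
      let a' : Kˣ := Units.mk0 (algebraMap V K a) fun h0 => ha (IsFractionRing.injective V K (h0.trans (map_zero _).symm))
      rw [← val_eq x u c p q hp hq h, val_eq x u a' p₁ (q' * q₁) hp₁
        (fun h => (x.isMaximal.isPrime.mem_or_mem h).elim hq' hq₁) ?_]
      · exact (vK_nonneg_iff a').2 ⟨a, rfl⟩
      · rw [map_mul, ← mul_assoc, h', Units.val_mk0, ← IsScalarTower.algebraMap_apply, ← map_mul, h₁, map_mul,
          ← IsScalarTower.algebraMap_apply]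

theorem exists_eq_of_nonneg (u : Lˣ) (h : ∀ x : MaximalSpectrum C, 0 ≤ val V K x (Additive.ofMul u)) :
    ∃ a : C, algebraMap C L a = (u : L) := by
  let I : Ideal C :=
    { carrier := {q | ∃ p : C, (u : L) * algebraMap C L q = algebraMap C L p}
      zero_mem' := ⟨0, by simp⟩
      add_mem' := by rintro q q' ⟨p, hp⟩ ⟨p', hp'⟩; exact ⟨p + p', by rw [map_add, mul_add, hp, hp', map_add]⟩
      smul_mem' := by rintro r q ⟨p, hp⟩; exact ⟨r * p, by rw [smul_eq_mul, map_mul, mul_left_comm, hp, map_mul]⟩ }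
  have hI : I = ⊤ := by
    by_contra hne
    obtain ⟨m, hm, hle⟩ := Ideal.exists_le_maximal I hne
    obtain ⟨p, q, hq, hpq⟩ := (val_nonneg_iff ⟨m, hm⟩ u).1 (h ⟨m, hm⟩)
    exact hq (hle ⟨p, hpq⟩)
  obtain ⟨p, hp⟩ := (Ideal.eq_top_iff_one I).1 hI
  exact ⟨p, by rw [← hp, map_one, mul_one]⟩

/-- A non-zero element as a unit of the fraction field. -/
def uC (a : C) (ha : a ≠ 0) : Additive Lˣ :=
  Additive.ofMul (Units.mk0 (algebraMap C L a) fun h => ha (IsFractionRing.injective C L (h.trans (map_zero _).symm)))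

theorem val_uC_nonneg (x : MaximalSpectrum C) (a : C) (ha : a ≠ 0) : 0 ≤ val V K x (uC (L := L) a ha) :=
  (val_nonneg_iff x _).2 ⟨a, 1, (Ideal.ne_top_iff_one _).1 x.isMaximal.ne_top, by simp⟩

theorem isUnit_of_val_eq_zero (u : Lˣ) (h : ∀ x : MaximalSpectrum C, val V K x (Additive.ofMul u) = 0) :
    ∃ a : Cˣ, algebraMap C L a = (u : L) := by
  obtain ⟨a, ha⟩ := exists_eq_of_nonneg u fun x => (h x).ge
  obtain ⟨b, hb⟩ := exists_eq_of_nonneg (V := V) (K := K) (C := C) u⁻¹ fun x => by
    show 0 ≤ val V K x (-Additive.ofMul u)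
    rw [map_neg, h x, neg_zero]
  exact ⟨⟨a, b, IsFractionRing.injective C L (by rw [map_mul, ha, hb, map_one, Units.mul_inv]),
    IsFractionRing.injective C L (by rw [map_mul, ha, hb, map_one, Units.inv_mul])⟩, ha⟩

theorem val_eq_zero_of_unit (x : MaximalSpectrum C) (a : Cˣ) (u : Lˣ) (h : algebraMap C L a = (u : L)) :
    val V K x (Additive.ofMul u) = 0 := by
  haveI := x.isMaximal
  rw [val_eq x u 1 (a : C) 1 (fun h => x.isMaximal.ne_top (Ideal.eq_top_of_isUnit_mem _ h a.isUnit))
    ((Ideal.ne_top_iff_one _).1 x.isMaximal.ne_top) (by simp [h])]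
  exact map_zero _

end Groth.Agent.ValTors
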